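import Mathlib
import Cfsg.Prelude.Def_Classical
import Cfsg.Agent.Lib.Helper5.O8Defs
import Cfsg.Agent.Lib.Helper5.O9Defs
import Cfsg.Agent.Lib.Helper5.O8Main
import Cfsg.Agent.Lib.Helper2.AffExt
import Cfsg.Agent.Lib.Helper17.SpectrumIterate

/-!
# O9-AFFPOW (helper28): the translation part of a power in `AffExt.Aff`
-/

set_option autoImplicit false

namespace Cfsg.Agent.Helper5.O9

open Polynomial Module QuadraticMap
open Cfsg.Agent.Helper13 Cfsg.Agent.Helper13.OrthSS Cfsg.Agent.Helper13.Dual Cfsg.Agent.Helper10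
open Cfsg.Agent.Helper5.O8 Cfsg.Agent.Helper2

universe u

-- PIECE O9-AFFPOW
theorem aff_pow_w {G W : Type*} [Group G] [AddCommGroup W] [DistribMulAction G W]
    (a : AffExt.Aff G W) (n : ℕ) :
    (a ^ n).w = ∑ i ∈ Finset.range n, (a.g ^ i) • a.w := by
  induction n with
  | zero => rw [pow_zero, Finset.range_zero, Finset.sum_empty]; rfl
  | succ n ih =>
    rw [pow_succ, AffExt.mul_w, AffExt.pow_g, ih, Finset.sum_range_succ]

end Cfsg.Agent.Helper5.O9
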