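import Mathlib
import Cfsg.Agent.Lib.Helper5.O9Defs
import Cfsg.Agent.Lib.Helper10.EODefs

/-! S3590 farm-out (designer helper5), piece O9-MATSTAR: the characteristic polynomial of a matrix
preserving a nondegenerate bilinear form is self-reciprocal. -/

set_option autoImplicit false

namespace Cfsg.Agent.Helper5.O9

open Polynomial Module QuadraticMap
open Cfsg.Agent.Helper10

universe u

-- PIECE O9-MATSTAR
theorem charpoly_star_of_form {F : Type u} [Field F] {n : Type} [Fintype n] [DecidableEq n]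
    (A J : Matrix n n F) (hJ : IsUnit J.det) (hA : A.transpose * J * A = J) :
    A.charpoly.coeff 0 ≠ 0 ∧ EO.star A.charpoly = A.charpoly := by
  have hJ0 : J.det ≠ 0 := hJ.ne_zero
  have hdet : A.det * A.det = 1 := by
    have h := congrArg Matrix.det hA
    rw [Matrix.det_mul, Matrix.det_mul, Matrix.det_transpose] at h
    have h2 : A.det * A.det * J.det = 1 * J.det := by
      rw [one_mul]; linear_combination h
    exact mul_right_cancel₀ hJ0 h2
  have hA0 : A.det ≠ 0 := by
    intro h0
    rw [h0, mul_zero] at hdet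
    exact zero_ne_one hdet
  have hAu : IsUnit A.det := isUnit_iff_ne_zero.mpr hA0
  have hAunit : IsUnit A := (Matrix.isUnit_iff_isUnit_det A).mpr hAu
  -- `Aᵀ = J A⁻¹ J⁻¹`
  have h1 : A.transpose * J = J * A⁻¹ := by
    have : A.transpose * J * A * A⁻¹ = J * A⁻¹ := by rw [hA]
    rwa [Matrix.mul_assoc, Matrix.mul_nonsing_inv A hAu, Matrix.mul_one] at this
  have h2 : A.transpose = J * (A⁻¹ * J⁻¹) := by
    have : A.transpose * J * J⁻¹ = J * A⁻¹ * J⁻¹ := by rw [h1]
    rwa [Matrix.mul_assoc, Matrix.mul_nonsing_inv J hJ, Matrix.mul_one, Matrix.mul_assoc] at this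
  have h3 : A⁻¹.charpoly = A.charpoly := by
    rw [← Matrix.charpoly_transpose A, h2, Matrix.charpoly_mul_comm, Matrix.mul_assoc,
      Matrix.nonsing_inv_mul J hJ, Matrix.mul_one]
  set s : F := (-1) ^ Fintype.card n with hs
  have hss : s * s = 1 := by
    rw [hs, ← mul_pow, neg_one_mul, neg_neg, one_pow]
  have hc0 : A.charpoly.coeff 0 = s * A.det := by
    have h := Matrix.det_eq_sign_charpoly_coeff A
    rw [h, ← hs, ← mul_assoc, hss, one_mul]
  have hc0ne : A.charpoly.coeff 0 ≠ 0 := by
    rw [hc0]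
    intro h0
    have : s * (s * A.det) = 0 := by rw [h0, mul_zero]
    rw [← mul_assoc, hss, one_mul] at this
    exact hA0 this
  refine ⟨hc0ne, ?_⟩
  have hinv : (A.charpoly.coeff 0)⁻¹ = s * A.det⁻¹ := by
    rw [hc0]
    apply inv_eq_of_mul_eq_one_right
    calc s * A.det * (s * A.det⁻¹) = (s * s) * (A.det * A.det⁻¹) := by ring
      _ = 1 := by rw [hss, mul_inv_cancel₀ hA0, one_mul]
  have h4 := Matrix.charpoly_inv A hAunit
  rw [h3, Ring.inverse_eq_inv', ← Matrix.reverse_charpoly] at h4
  unfold EO.star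
  rw [hinv, map_mul, hs, map_pow, map_neg, map_one]
  exact h4.symm

end Cfsg.Agent.Helper5.O9
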