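import Mathlib
import Cfsg.Agent.Lib.Helper5.O9Defs
import Cfsg.Agent.Lib.Helper10.EODefs
import Cfsg.Agent.Lib.O9.O9MATSTAR

/-! S3590 farm-out (designer helper5), piece O9-ENDSTAR: the characteristic polynomial of an isometry
of a nondegenerate quadratic space is self-reciprocal. -/

set_option autoImplicit false

namespace Cfsg.Agent.Helper5.O9

open Polynomial Module QuadraticMap
open Cfsg.Agent.Helper10

universe u

/-- an isometry preserves the polar form -/
theorem o9_endstar_polar {F : Type u} [Field F] {V : Type u} [AddCommGroup V] [Module F V]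
    (Q : QuadraticForm F V) (g : Module.End F V) (hg : ∀ v, Q (g v) = Q v) (x y : V) :
    polar Q (g x) (g y) = polar Q x y := by
  unfold polar
  rw [← map_add, hg, hg, hg]

-- PIECE O9-ENDSTAR
theorem charpoly_star_of_isometry {F : Type u} [Field F] {V : Type u} [AddCommGroup V]
    [Module F V] [FiniteDimensional F V] (Q : QuadraticForm F V)
    (hQ : (polarBilin Q).Nondegenerate) (g : Module.End F V) (hg : ∀ v, Q (g v) = Q v) :
    g.charpoly.coeff 0 ≠ 0 ∧ EO.star g.charpoly = g.charpoly := by
  let b := Module.finBasis F V
  have hJ : IsUnit (LinearMap.BilinForm.toMatrix b (polarBilin Q)).det :=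
    isUnit_iff_ne_zero.mpr ((LinearMap.BilinForm.nondegenerate_iff_det_ne_zero b).mp hQ)
  have hcomp : LinearMap.BilinForm.comp (polarBilin Q) g g = polarBilin Q := by
    apply LinearMap.ext₂
    intro x y
    rw [LinearMap.BilinForm.comp_apply, polarBilin_apply_apply, polarBilin_apply_apply]
    exact o9_endstar_polar Q g hg x y
  have hA : (LinearMap.toMatrix b b g).transpose * LinearMap.BilinForm.toMatrix b (polarBilin Q) *
      LinearMap.toMatrix b b g = LinearMap.BilinForm.toMatrix b (polarBilin Q) := by
    rw [← LinearMap.BilinForm.toMatrix_comp b b (polarBilin Q) g g, hcomp]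
  have h := charpoly_star_of_form (LinearMap.toMatrix b b g)
    (LinearMap.BilinForm.toMatrix b (polarBilin Q)) hJ hA
  rwa [LinearMap.charpoly_toMatrix] at h

end Cfsg.Agent.Helper5.O9
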