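import Mathlib
import Cfsg.Prelude.Def_Classical
import Cfsg.Agent.Lib.Helper5.O8Defs
import Cfsg.Agent.Lib.Helper5.O9Defs
import Cfsg.Agent.Lib.Helper2.AffExt

/-! S3590 farm-out (designer helper5), piece O9-H0ELT: an element of order `2n` in `H0`. -/

set_option autoImplicit false

namespace Cfsg.Agent.Helper5.O9

open Polynomial Module QuadraticMap
open Cfsg.Agent.Helper13 Cfsg.Agent.Helper13.OrthSS
open Cfsg.Agent.Helper5.O8 Cfsg.Agent.Helper2

universe u

/-- the translation part of a power in the affine extension -/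
theorem o9_h0elt_pow_w {G W : Type*} [Group G] [AddCommGroup W] [DistribMulAction G W]
    (a : AffExt.Aff G W) (n : ℕ) :
    (a ^ n).w = ∑ i ∈ Finset.range n, (a.g ^ i) • a.w := by
  induction n with
  | zero => simp [AffExt.one_w]
  | succ n ih =>
    rw [pow_succ', AffExt.mul_w, ih, Finset.sum_range_succ', pow_zero, one_smul, Finset.smul_sum,
      add_comm]
    congr 1
    apply Finset.sum_congr rfl
    intro i _
    rw [← mul_smul, pow_succ']

-- PIECE O9-H0ELT
theorem exists_H0_double {F : Type u} [Field F] [Fintype F] [CharP F 2] (ζ : F)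
    (g : ↥(L0 F ζ)) (n : ℕ) (hn : orderOf g = n) (hn0 : 0 < n) (v : V0 F)
    (hv : (∑ i ∈ Finset.range n,
      ((g : (Module.End F (V0 F))ˣ) : Module.End F (V0 F)) ^ i) v ≠ 0) :
    ∃ a : H0 F ζ, orderOf a = 2 * n := by
  have hW : ∀ w : V0 F, w + w = 0 := by
    intro w
    funext i
    exact CharTwo.add_self_eq_zero (w i)
  let a : H0 F ζ := ⟨v, g⟩
  have hag : a.g = g := rfl
  have haw : a.w = v := rfl
  have hsm : ∀ i : ℕ, (g ^ i) • v =
      ((((g : (Module.End F (V0 F))ˣ) : Module.End F (V0 F)) ^ i) v) := by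
    intro i
    have h1 : (((g ^ i : ↥(L0 F ζ)) : (Module.End F (V0 F))ˣ) : Module.End F (V0 F)) =
        (((g : (Module.End F (V0 F))ˣ) : Module.End F (V0 F)) ^ i) := by
      rw [Subgroup.coe_pow, Units.val_pow_eq_pow_val]
    rw [← h1]
    rfl
  have hpw : (a ^ n).w ≠ 0 := by
    rw [o9_h0elt_pow_w, hag, haw]
    rw [LinearMap.sum_apply] at hv
    rw [Finset.sum_congr rfl (fun i _ => hsm i)]
    exact hv
  have hne : a ^ n ≠ 1 := by
    intro h
    apply hpw
    rw [h, AffExt.one_w]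
  have h1 : n ∣ orderOf a := by
    have := AffExt.orderOf_g_dvd a
    rwa [hag, hn] at this
  have h2 : orderOf a ∣ n * 2 := by
    have := AffExt.orderOf_dvd_two_mul hW a
    rwa [hag, hn] at this
  refine ⟨a, ?_⟩
  obtain ⟨c, hc⟩ := h1
  rw [hc] at h2
  have hc2 : c ∣ 2 := Nat.dvd_of_mul_dvd_mul_left hn0 h2
  rcases (Nat.dvd_prime Nat.prime_two).mp hc2 with h | h
  · exfalso
    apply hne
    rw [h, mul_one] at hc
    rw [← hc]
    exact pow_orderOf_eq_one a
  · rw [hc, h, mul_comm]

end Cfsg.Agent.Helper5.O9
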