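import Mathlib
import Cfsg.Prelude.Def_Classical
import Cfsg.Agent.Lib.Helper5.O8Defs
import Cfsg.Agent.Lib.Helper5.O9Defs
import Cfsg.Agent.Lib.Helper5.O8Main
import Cfsg.Agent.Lib.Helper2.AffExt
import Cfsg.Agent.Lib.Helper17.SpectrumIterate

/-!
# S3590 piece O9-LISTPSP (helper7 for helper5)
-/

set_option autoImplicit false

namespace Cfsg.Agent.Helper5.O9

open Polynomial Module QuadraticMap
open Cfsg.Agent.Helper13 Cfsg.Agent.Helper13.OrthSS Cfsg.Agent.Helper13.Dual Cfsg.Agent.Helper10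
open Cfsg.Agent.Helper5.O8 Cfsg.Agent.Helper2

universe u

-- PIECE O9-LISTPSP
theorem exists_psp_of_list {F : Type u} [Field F] [Fintype F] [CharP F 2] (p : ℕ × ℕ)
    (hp : p ∈ Llist (Fintype.card F)) : ∃ x : Cfsg.PSp 4 F, p.1 * 2 ^ p.2 ∣ orderOf x := by
  obtain ⟨ζ, hζ⟩ := exists_rootless (F := F)
  have han : ∀ z₁ z₂ : F, z₁ ^ 2 + 1 * z₁ * z₂ + ζ * z₂ ^ 2 = 0 → z₁ = 0 ∧ z₂ = 0 :=
    aniso_of_rootless ζ hζ
  obtain ⟨n, hn, hqo⟩ := lower_list (F := F) p hp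
  obtain ⟨g, hg⟩ := exists_go_of_qord 1 ζ han n hqo
  obtain ⟨x, hx⟩ := exists_sp_of_go 1 ζ han g
  refine ⟨QuotientGroup.mk x, ?_⟩
  rw [orderOf_mk_psp 4 (by norm_num) x, hx, hg]
  exact hn

end Cfsg.Agent.Helper5.O9
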