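import Mathlib
import Cfsg.Prelude.Def_Classical
import Cfsg.Agent.Lib.Helper5.O8Defs
import Cfsg.Agent.Lib.Helper5.O9Defs
import Cfsg.Agent.Lib.Helper13.OrthReal

/-!
# S3590 piece O9-PAIR (helper5's skeleton): the hyperbolic block `K × K`, `Q(x,y) = τ(xy)`,
with the torus element `(s, s⁻¹)` and the swap.  Adapted from helper13's `OrthSS.qreal_pair`.
Typed by helper19.
-/

set_option autoImplicit false
set_option linter.unusedVariables false

namespace Cfsg.Agent.Helper5.O9

open Polynomial Module QuadraticMap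
open Cfsg.Agent.Helper13 Cfsg.Agent.Helper13.OrthSS Cfsg.Agent.Helper13.Dual
open Cfsg.Agent.Helper13.SS Cfsg.Agent.Helper13.SympSS

universe u

-- PIECE O9-PAIR
theorem exists_pair_space {F : Type u} [Field F] [Fintype F] [CharP F 2] (m : ℕ) (hm : 1 ≤ m)
    (f : F[X]) (hf : Irreducible f) (hmon : f.Monic) (hfm : f ∣ X ^ m - 1)
    (hord : ∀ j : ℕ, f ∣ X ^ j - 1 → m ∣ j) :
    ∃ (V : Type u) (_ : AddCommGroup V) (_ : Module F V) (_ : FiniteDimensional F V)
      (A σ : Module.End F V) (Q : QuadraticForm F V),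
      A ^ m = 1 ∧ (∀ j : ℕ, A ^ j = 1 → m ∣ j) ∧ (polarBilin Q).Nondegenerate ∧
        (∀ v, Q (A v) = Q v) ∧ finrank F V = 2 * f.natDegree ∧ IsHyp Q ∧
        (∀ v, Q (σ v) = Q v) ∧ σ * σ = 1 ∧ σ * A * σ * A = 1 ∧ ∃ u, polar Q (σ u) u ≠ 0 := by
  classical
  have hfact : Fact (Irreducible f) := ⟨hf⟩
  have hfd : FiniteDimensional F (AdjoinRoot f) := (AdjoinRoot.powerBasis hf.ne_zero).finite
  set k := AdjoinRoot f with hk
  set s : k := AdjoinRoot.root f with hs
  set s' : k := s ^ (m - 1) with hs'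
  have hss' : s * s' = 1 := root_mul_inv hm hfm
  have hsm : s ^ m = 1 := root_pow_eq_one hfm
  have hs'm : s' ^ m = 1 := by
    rw [hs', ← pow_mul, mul_comm, pow_mul, hsm, one_pow]
  obtain ⟨τ, hτ⟩ := Module.Projective.exists_dual_ne_zero F (one_ne_zero : (1 : k) ≠ 0)
  set B : LinearMap.BilinForm F (k × k) :=
    LinearMap.mk₂ F (fun u v => τ (u.1 * v.2))
      (by intro a b c; simp only [Prod.fst_add, add_mul, map_add])
      (by intro c a b; simp only [Prod.smul_fst, smul_mul_assoc, map_smul])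
      (by intro a b c; simp only [Prod.snd_add, mul_add, map_add])
      (by intro c a b; simp only [Prod.smul_snd, mul_smul_comm, map_smul]) with hB
  have hBa : ∀ u v : k × k, B u v = τ (u.1 * v.2) := fun u v => rfl
  set Q : QuadraticForm F (k × k) := LinearMap.BilinMap.toQuadraticMap B with hQ
  have hQa : ∀ u : k × k, Q u = τ (u.1 * u.2) := by
    intro u
    rw [hQ, LinearMap.BilinMap.toQuadraticMap_apply, hBa]
  have hpol : ∀ u v : k × k, polar Q u v = τ (u.1 * v.2) + τ (v.1 * u.2) := by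
    intro u v
    rw [hQ, LinearMap.BilinMap.polar_toQuadraticMap, hBa, hBa]
  have hτnd : ∀ x : k, (∀ y : k, τ (x * y) = 0) → x = 0 := by
    intro x hx
    by_contra hx0
    apply hτ
    have := hx x⁻¹
    rwa [mul_inv_cancel₀ hx0] at this
  -- the swap
  set σ : Module.End F (k × k) :=
    (LinearMap.snd F k k).prod (LinearMap.fst F k k) with hσ
  have hσa : ∀ u : k × k, σ u = (u.2, u.1) := fun u => rfl
  set A : Module.End F (k × k) := (Algebra.lmul F k s).prodMap (Algebra.lmul F k s') with hA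
  have hAa : ∀ u : k × k, A u = (s * u.1, s' * u.2) := fun u => rfl
  have hApow : ∀ j : ℕ, A ^ j = (Algebra.lmul F k (s ^ j)).prodMap (Algebra.lmul F k (s' ^ j)) := by
    intro j
    rw [hA, prodMap_pow, lmul_pow, lmul_pow]
  refine ⟨k × k, inferInstance, inferInstance, inferInstance, A, σ, Q, ?_, ?_, ?_, ?_, ?_, ?_, ?_,
    ?_, ?_, ?_⟩
  · rw [hApow, hsm, hs'm, map_one]
    apply LinearMap.ext
    rintro ⟨x, y⟩
    rfl
  · intro j hj
    apply hord
    rw [← AdjoinRoot.mk_eq_zero, map_sub, map_pow, AdjoinRoot.mk_X, map_one, sub_eq_zero]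
    have h1 : (A ^ j) ((1 : k), (0 : k)) = ((1 : k), (0 : k)) := by
      rw [hj]; rfl
    rw [hApow] at h1
    have h2 : (s ^ j * 1 : k) = 1 := congrArg Prod.fst h1
    rwa [mul_one] at h2
  · apply nondeg_of_polar
    rintro ⟨x, y⟩ h
    have hx : x = 0 := by
      apply hτnd
      intro y'
      have := h (0, y')
      rw [hpol] at this
      simpa using this
    have hy : y = 0 := by
      apply hτnd
      intro x'
      have := h (x', 0)
      rw [hpol] at this
      simp only [mul_zero, map_zero, zero_add] at this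
      rw [mul_comm]
      exact this
    rw [hx, hy]
    rfl
  · rintro ⟨x, y⟩
    rw [hQa, hQa]
    show τ (s * x * (s' * y)) = τ (x * y)
    have e1 : s * x * (s' * y) = x * y := by
      calc s * x * (s' * y) = (s * s') * (x * y) := by ring
        _ = x * y := by rw [hss', one_mul]
    rw [e1]
  · rw [Module.finrank_prod, finrank_adjoinRoot]
    ring
  · refine ⟨LinearMap.range (LinearMap.inl F k k), ?_, ?_⟩
    · rintro _ ⟨x, rfl⟩
      rw [hQa]
      show τ (x * 0) = 0
      rw [mul_zero, map_zero]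
    · rw [LinearMap.finrank_range_of_inj LinearMap.inl_injective, Module.finrank_prod]
      ring
  · rintro ⟨x, y⟩
    rw [hQa, hQa]
    show τ (y * x) = τ (x * y)
    rw [mul_comm]
  · apply LinearMap.ext
    rintro ⟨x, y⟩
    rfl
  · apply LinearMap.ext
    rintro ⟨x, y⟩
    rw [Module.End.mul_apply, Module.End.mul_apply, Module.End.mul_apply, hAa, hσa, hAa, hσa,
      Module.End.one_apply]
    show (s' * (s * x), s * (s' * y)) = (x, y)
    have e1 : s * (s' * y) = y := by rw [← mul_assoc, hss', one_mul]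
    have e2 : s' * (s * x) = x := by rw [← mul_assoc, mul_comm s' s, hss', one_mul]
    rw [e1, e2]
  · refine ⟨((1 : k), (0 : k)), ?_⟩
    rw [hσa, hpol]
    show τ (0 * 0) + τ (1 * 1) ≠ 0
    rw [mul_zero, map_zero, zero_add, mul_one]
    exact hτ

end Cfsg.Agent.Helper5.O9
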