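import Mathlib
import Cfsg.Agent.Lib.Helper5.O9Defs

/-!
# S3590 piece O9-KEY1: `dim Fix(r_a g) + 1 = dim Fix(g)` when `a` is not perpendicular to `Fix(g)`
-/

set_option autoImplicit false

namespace Cfsg.Agent.Helper5.O9

open Polynomial Module QuadraticMap

universe u

/-- an isometry preserves the polar form -/
theorem o9_key1_polar_inv {F : Type u} [Field F] {V : Type u} [AddCommGroup V] [Module F V]
    (Q : QuadraticForm F V) (g : Module.End F V) (hg : ∀ v, Q (g v) = Q v) (u v : V) :
    polar Q (g u) (g v) = polar Q u v := by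
  unfold polar
  rw [← map_add, hg, hg, hg]

theorem o9_key1_mem_fix {F : Type u} [Field F] {V : Type u} [AddCommGroup V] [Module F V]
    (g : Module.End F V) (x : V) : x ∈ LinearMap.ker (g - 1) ↔ g x = x := by
  rw [LinearMap.mem_ker, LinearMap.sub_apply, Module.End.one_apply, sub_eq_zero]

theorem o9_key1_mem_fix_refl {F : Type u} [Field F] {V : Type u} [AddCommGroup V] [Module F V]
    (Q : QuadraticForm F V) (g : Module.End F V) (a x : V) :
    x ∈ LinearMap.ker (refl Q a * g - 1) ↔ g x + ((Q a)⁻¹ * polar Q (g x) a) • a = x := by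
  rw [LinearMap.mem_ker, LinearMap.sub_apply, Module.End.one_apply, sub_eq_zero,
    Module.End.mul_apply, refl_apply]

/-- the fixed vectors of `g` are perpendicular to the range of `g - 1` -/
theorem o9_key1_fix_perp {F : Type u} [Field F] {V : Type u} [AddCommGroup V] [Module F V]
    (Q : QuadraticForm F V) (g : Module.End F V) (hg : ∀ v, Q (g v) = Q v) (f x : V)
    (hf : g f = f) : polar Q f (g x - x) = 0 := by
  rw [polar_sub_right]
  nth_rewrite 1 [← hf]
  rw [o9_key1_polar_inv Q g hg, sub_self]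

/-- `Fix(r_a g) = Fix(g) ∩ a^⊥` if `a` is not perpendicular to `Fix(g)` -/
theorem o9_key1_mem {F : Type u} [Field F] {V : Type u} [AddCommGroup V] [Module F V]
    (Q : QuadraticForm F V) (g : Module.End F V) (hg : ∀ v, Q (g v) = Q v) (a : V) (ha : Q a ≠ 0)
    (hperp : ∃ f ∈ LinearMap.ker (g - 1), polar Q f a ≠ 0) (x : V) :
    x ∈ LinearMap.ker (refl Q a * g - 1) ↔ g x = x ∧ polar Q x a = 0 := by
  rw [o9_key1_mem_fix_refl]
  constructor
  · intro h
    by_cases hl : (Q a)⁻¹ * polar Q (g x) a = 0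
    · rw [hl, zero_smul, add_zero] at h
      refine ⟨h, ?_⟩
      rw [h] at hl
      rcases mul_eq_zero.1 hl with h1 | h1
      · exact absurd (inv_eq_zero.1 h1) ha
      · exact h1
    · exfalso
      obtain ⟨f, hf, hfa⟩ := hperp
      rw [o9_key1_mem_fix] at hf
      apply hfa
      have ha' : a = ((Q a)⁻¹ * polar Q (g x) a)⁻¹ • (x - g x) := by
        rw [← eq_sub_of_add_eq' h, smul_smul, inv_mul_cancel₀ hl, one_smul]
      have h0 : polar Q f (x - g x) = 0 := by
        have := o9_key1_fix_perp Q g hg f x hf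
        rw [← neg_sub, polar_neg_right, neg_eq_zero] at this
        exact this
      rw [ha', polar_smul_right, h0, smul_zero]
  · rintro ⟨h1, h2⟩
    rw [h1, h2, mul_zero, zero_smul, add_zero]

-- PIECE O9-KEY1
theorem finrank_ker_refl_mul_of_not_perp {F : Type u} [Field F] [CharP F 2] {V : Type u}
    [AddCommGroup V] [Module F V] [FiniteDimensional F V] (Q : QuadraticForm F V)
    (g : Module.End F V) (hg : ∀ v, Q (g v) = Q v) (a : V) (ha : Q a ≠ 0)
    (hperp : ∃ f ∈ LinearMap.ker (g - 1), polar Q f a ≠ 0) :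
    finrank F (LinearMap.ker (refl Q a * g - 1)) + 1 = finrank F (LinearMap.ker (g - 1)) := by
  set K := LinearMap.ker (g - 1) with hK
  let φ : ↥K →ₗ[F] F := ((polarBilin Q).flip a).comp K.subtype
  have hφ : ∀ y : ↥K, φ y = polar Q (y : V) a := fun y => rfl
  have hmap : (LinearMap.ker φ).map K.subtype = LinearMap.ker (refl Q a * g - 1) := by
    ext x
    rw [o9_key1_mem Q g hg a ha hperp, Submodule.mem_map]
    constructor
    · rintro ⟨y, hy, rfl⟩
      refine ⟨(o9_key1_mem_fix g _).1 y.2, ?_⟩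
      rw [LinearMap.mem_ker, hφ] at hy
      exact hy
    · rintro ⟨h1, h2⟩
      refine ⟨⟨x, (o9_key1_mem_fix g x).2 h1⟩, ?_, rfl⟩
      rw [LinearMap.mem_ker, hφ]
      exact h2
  have hsurj : LinearMap.range φ = ⊤ := by
    rw [LinearMap.range_eq_top]
    obtain ⟨f, hf, hfa⟩ := hperp
    intro c
    refine ⟨(c / polar Q f a) • (⟨f, hf⟩ : ↥K), ?_⟩
    rw [map_smul, hφ, smul_eq_mul, div_mul_cancel₀ _ hfa]
  have h1 := LinearMap.finrank_range_add_finrank_ker φ
  rw [hsurj, finrank_top, Module.finrank_self] at h1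
  rw [← hmap, Submodule.finrank_map_subtype_eq, ← h1, add_comm]

end Cfsg.Agent.Helper5.O9
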