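import Mathlib
import Cfsg.Agent.Lib.Helper5.O9Defs
import Cfsg.Agent.Lib.O9.O9KEY1

/-!
# S3590 piece O9-KEY2: `dim Fix(r_a g) = dim Fix(g) + 1` when `a = (g - 1) c` is nonsingular
(obtained from O9-KEY1 applied to `r_a g`: `c ∈ Fix(r_a g)` is not perpendicular to `a`, and `r_a (r_a g) = g`)
-/

set_option autoImplicit false

namespace Cfsg.Agent.Helper5.O9

open Polynomial Module QuadraticMap

universe u

theorem o9_key2_two {F : Type u} [Field F] [CharP F 2] : (2 : F) = 0 := by
  have := CharP.cast_eq_zero F 2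
  exact_mod_cast this

/-- a reflection is an isometry (characteristic 2) -/
theorem o9_key2_refl_iso {F : Type u} [Field F] [CharP F 2] {V : Type u} [AddCommGroup V]
    [Module F V] (Q : QuadraticForm F V) (a : V) (ha : Q a ≠ 0) (x : V) :
    Q (refl Q a x) = Q x := by
  have h2 : (2 : F) = 0 := o9_key2_two
  rw [refl_apply, QuadraticMap.map_add Q, QuadraticMap.map_smul, polar_smul_right, smul_eq_mul,
    smul_eq_mul]
  have e : (Q a)⁻¹ * polar Q x a * ((Q a)⁻¹ * polar Q x a) * Q a
      = (Q a)⁻¹ * polar Q x a * polar Q x a := by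
    field_simp
  rw [e, add_assoc, ← two_mul, h2, zero_mul, add_zero]

-- PIECE O9-KEY2
theorem finrank_ker_refl_mul_of_mem_range {F : Type u} [Field F] [CharP F 2] {V : Type u}
    [AddCommGroup V] [Module F V] [FiniteDimensional F V] (Q : QuadraticForm F V)
    (g : Module.End F V) (hg : ∀ v, Q (g v) = Q v) (a : V) (ha : Q a ≠ 0) (c : V)
    (hc : (g - 1) c = a) :
    finrank F (LinearMap.ker (refl Q a * g - 1)) = finrank F (LinearMap.ker (g - 1)) + 1 := by
  have h2 : (2 : F) = 0 := o9_key2_two
  have hgc : g c = a + c := by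
    rw [LinearMap.sub_apply, Module.End.one_apply] at hc
    rw [← hc, sub_add_cancel]
  -- `Q a + B(a, c) = 0`
  have h1 : Q a + polar Q a c = 0 := by
    have := hg c
    rw [hgc, QuadraticMap.map_add Q] at this
    linear_combination this
  have hca : polar Q c a = Q a := by
    rw [polar_comm]
    have : polar Q a c = - Q a := by linear_combination h1
    rw [this, CharTwo.neg_eq]
  -- `c ∈ Fix(r_a g)`
  have hfix : c ∈ LinearMap.ker (refl Q a * g - 1) := by
    rw [o9_key1_mem_fix_refl, hgc, polar_add_left, polar_self, hca, two_nsmul,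
      CharTwo.add_self_eq_zero, zero_add, inv_mul_cancel₀ ha, one_smul]
    have : a + c + a = c + (2 : F) • a := by rw [two_smul]; abel
    rw [this, h2, zero_smul, add_zero]
  have hg' : ∀ v, Q ((refl Q a * g) v) = Q v := by
    intro v
    rw [Module.End.mul_apply, o9_key2_refl_iso Q a ha, hg]
  have hperp : ∃ f ∈ LinearMap.ker (refl Q a * g - 1), polar Q f a ≠ 0 :=
    ⟨c, hfix, by rw [hca]; exact ha⟩
  have hkey := finrank_ker_refl_mul_of_not_perp Q (refl Q a * g) hg' a ha hperp
  rw [← mul_assoc, refl_mul_self, one_mul] at hkey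
  exact hkey.symm

end Cfsg.Agent.Helper5.O9
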