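import Mathlib
import Cfsg.Prelude.Def_Classical
import Cfsg.Agent.Lib.Helper5.O8Defs
import Cfsg.Agent.Lib.Helper5.O9Defs

/-!
# S3590 piece O9-PARITY (helper5's skeleton), core: the parity of the fixed space of a product of
reflections, with the statements of O9-REFLISO, O9-KEY1, O9-KEY2, O9-PERP as hypotheses.
Typed by helper19.
-/

set_option autoImplicit false

namespace Cfsg.Agent.Helper5.O9

open Polynomial Module QuadraticMap
open Cfsg.Agent.Helper13 Cfsg.Agent.Helper13.OrthSS
open Cfsg.Agent.Helper5.O8 Cfsg.Agent.Helper2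

universe u

/-- the product in the reverse order is also a left inverse -/
theorem o9_parity_reverse_mul {F : Type u} [Field F] [CharP F 2] {V : Type u} [AddCommGroup V]
    [Module F V] (Q : QuadraticForm F V) (l : List V) :
    (l.reverse.map (refl Q)).prod * (l.map (refl Q)).prod = 1 := by
  have h := isReflProd_reverse (Q := Q) l.reverse
  rwa [List.reverse_reverse] at h

theorem o9_parity_prod_bij {F : Type u} [Field F] [CharP F 2] {V : Type u} [AddCommGroup V]
    [Module F V] (Q : QuadraticForm F V) (l : List V) :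
    Function.Bijective ((l.map (refl Q)).prod : Module.End F V) := by
  have h1 := isReflProd_reverse (Q := Q) l
  have h2 := o9_parity_reverse_mul Q l
  constructor
  · intro x y hxy
    have hx : ((l.reverse.map (refl Q)).prod * (l.map (refl Q)).prod) x = x := by
      rw [h2]; rfl
    have hy : ((l.reverse.map (refl Q)).prod * (l.map (refl Q)).prod) y = y := by
      rw [h2]; rfl
    rw [Module.End.mul_apply] at hx hy
    rw [← hx, ← hy, hxy]
  · intro y
    refine ⟨(l.reverse.map (refl Q)).prod y, ?_⟩
    have hy : ((l.map (refl Q)).prod * (l.reverse.map (refl Q)).prod) y = y := by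
      rw [h1]; rfl
    rwa [Module.End.mul_apply] at hy

theorem o9_parity_prod_isom {F : Type u} [Field F] {V : Type u} [AddCommGroup V]
    [Module F V] (Q : QuadraticForm F V)
    (hiso : ∀ a : V, Q a ≠ 0 → ∀ x : V, Q (refl Q a x) = Q x)
    (l : List V) (hl : ∀ a ∈ l, Q a ≠ 0) (v : V) :
    Q ((l.map (refl Q)).prod v) = Q v := by
  induction l generalizing v with
  | nil => simp
  | cons a l ih =>
    rw [List.map_cons, List.prod_cons, Module.End.mul_apply,
      hiso a (hl a (List.mem_cons_self)) _]
    exact ih (fun b hb => hl b (List.mem_cons_of_mem _ hb)) v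

theorem o9_parity_core {F : Type u} [Field F] [CharP F 2] {V : Type u}
    [AddCommGroup V] [Module F V] [FiniteDimensional F V] (Q : QuadraticForm F V)
    (hiso : ∀ a : V, Q a ≠ 0 → ∀ x : V, Q (refl Q a x) = Q x)
    (hkey1 : ∀ (g : Module.End F V), (∀ v, Q (g v) = Q v) → ∀ a : V, Q a ≠ 0 →
      (∃ f ∈ LinearMap.ker (g - 1), polar Q f a ≠ 0) →
      finrank F (LinearMap.ker (refl Q a * g - 1)) + 1 = finrank F (LinearMap.ker (g - 1)))
    (hkey2 : ∀ (g : Module.End F V), (∀ v, Q (g v) = Q v) → ∀ a : V, Q a ≠ 0 → ∀ c : V,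
      (g - 1) c = a →
      finrank F (LinearMap.ker (refl Q a * g - 1)) = finrank F (LinearMap.ker (g - 1)) + 1)
    (hperp : ∀ (g : Module.End F V), (∀ v, Q (g v) = Q v) → Function.Bijective g → ∀ a : V,
      (∀ f ∈ LinearMap.ker (g - 1), polar Q f a = 0) → a ∈ LinearMap.range (g - 1))
    (l : List V) (hl : ∀ a ∈ l, Q a ≠ 0)
    (h : Module.End F V) (hh : ∀ v, Q (h v) = Q v) (hbij : Function.Bijective h) :
    (finrank F (LinearMap.ker ((l.map (refl Q)).prod * h - 1)) + l.length) % 2 =
      finrank F (LinearMap.ker (h - 1)) % 2 := by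
  induction l with
  | nil =>
    rw [List.map_nil, List.prod_nil, one_mul, List.length_nil, add_zero]
  | cons a l ih =>
    have hl' : ∀ b ∈ l, Q b ≠ 0 := fun b hb => hl b (List.mem_cons_of_mem _ hb)
    have ha : Q a ≠ 0 := hl a (List.mem_cons_self)
    have ih' := ih hl'
    set g : Module.End F V := (l.map (refl Q)).prod * h with hg
    have hgiso : ∀ v, Q (g v) = Q v := by
      intro v
      rw [hg, Module.End.mul_apply, o9_parity_prod_isom Q hiso l hl', hh]
    have hgbij : Function.Bijective g := by
      rw [hg]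
      exact (o9_parity_prod_bij Q l).comp hbij
    have hprod : ((a :: l).map (refl Q)).prod * h = refl Q a * g := by
      rw [List.map_cons, List.prod_cons, mul_assoc]
    rw [hprod, List.length_cons]
    by_cases hex : ∃ f ∈ LinearMap.ker (g - 1), polar Q f a ≠ 0
    · have h1 := hkey1 g hgiso a ha hex
      omega
    · push Not at hex
      obtain ⟨c, hc⟩ := hperp g hgiso hgbij a hex
      have h2 := hkey2 g hgiso a ha c hc
      omega

end Cfsg.Agent.Helper5.O9
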