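import Mathlib
import Cfsg.Agent.Lib.Helper5.O9Defs

/-!
# S3590 piece O9-PERP: `range (g - 1) = Fix(g)^⊥` for a bijective isometry of a nondegenerate space
-/

set_option autoImplicit false

namespace Cfsg.Agent.Helper5.O9

open Polynomial Module QuadraticMap

universe u

-- PIECE O9-PERP
theorem mem_range_of_perp {F : Type u} [Field F] {V : Type u}
    [AddCommGroup V] [Module F V] [FiniteDimensional F V] (Q : QuadraticForm F V)
    (hQ : (polarBilin Q).Nondegenerate) (g : Module.End F V) (hg : ∀ v, Q (g v) = Q v)
    (hbij : Function.Bijective g) (a : V)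
    (hperp : ∀ f ∈ LinearMap.ker (g - 1), polar Q f a = 0) : a ∈ LinearMap.range (g - 1) := by
  have hB : ∀ u v, polar Q (g u) (g v) = polar Q u v := by
    intro u v
    unfold polar
    rw [← map_add, hg, hg, hg]
  have hrefl : (polarBilin Q).IsRefl := by
    intro u v h
    rw [polarBilin_apply_apply] at h ⊢
    rw [polar_comm]
    exact h
  rw [← LinearMap.BilinForm.orthogonal_orthogonal hQ hrefl (LinearMap.range (g - 1))]
  rw [LinearMap.BilinForm.mem_orthogonal_iff]
  intro n hn
  rw [LinearMap.BilinForm.mem_orthogonal_iff] at hn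
  rw [polarBilin_apply_apply]
  apply hperp
  rw [LinearMap.mem_ker, LinearMap.sub_apply, Module.End.one_apply, sub_eq_zero]
  obtain ⟨m, rfl⟩ := hbij.2 n
  have hmn : m - g m = 0 := by
    apply hQ.2
    intro y
    have h1 := hn ((g - 1) y) (LinearMap.mem_range_self _ y)
    rw [polarBilin_apply_apply, LinearMap.sub_apply, Module.End.one_apply, polar_sub_left, hB,
      sub_eq_zero] at h1
    rw [polarBilin_apply_apply, polar_sub_right, h1, sub_self]
  rw [sub_eq_zero] at hmn
  exact (congrArg g hmn).symm

end Cfsg.Agent.Helper5.O9
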