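import Mathlib
import Cfsg.Prelude.Def_Classical
import Cfsg.Agent.Lib.Helper5.O8Defs
import Cfsg.Agent.Lib.Helper5.O9Defs

/-!
# S3590 piece O9-REFLISO: in characteristic 2 the reflection in a nonsingular vector is an isometry.
-/

set_option autoImplicit false

namespace Cfsg.Agent.Helper5.O9

open Polynomial Module QuadraticMap
open Cfsg.Agent.Helper13 Cfsg.Agent.Helper13.OrthSS
open Cfsg.Agent.Helper5.O8

universe u

-- PIECE O9-REFLISO
theorem refl_isometry {F : Type u} [Field F] [CharP F 2] {V : Type u} [AddCommGroup V]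
    [Module F V] (Q : QuadraticForm F V) (a : V) (ha : Q a ≠ 0) (x : V) :
    Q (refl Q a x) = Q x := by
  have h2 : (2 : F) = 0 := CharTwo.two_eq_zero
  rw [refl_apply]
  have h1 : Q (x + ((Q a)⁻¹ * polar Q x a) • a) =
      Q x + Q (((Q a)⁻¹ * polar Q x a) • a) + polar Q x (((Q a)⁻¹ * polar Q x a) • a) := by
    unfold polar
    ring
  rw [h1, QuadraticMap.map_smul, polar_smul_right, smul_eq_mul, smul_eq_mul]
  have h3 : (Q a)⁻¹ * polar Q x a * ((Q a)⁻¹ * polar Q x a) * Q a =
      (Q a)⁻¹ * polar Q x a * polar Q x a := by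
    field_simp
  rw [h3]
  linear_combination ((Q a)⁻¹ * polar Q x a * polar Q x a) * h2

end Cfsg.Agent.Helper5.O9
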