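import Mathlib
import Cfsg.Prelude.Def_Classical
import Cfsg.Agent.Lib.Helper5.O8Defs
import Cfsg.Agent.Lib.Helper5.O9Defs
import Cfsg.Agent.Lib.O9.O9REFLISO
import Cfsg.Agent.Lib.O9.O9KEY1
import Cfsg.Agent.Lib.O9.O9KEY2
import Cfsg.Agent.Lib.O9.O9PERP
import Cfsg.Agent.Lib.O9.O9PARITYCore

/-!
# S3590 piece O9-PARITY (helper5's skeleton): the parity of the fixed space of a product of
reflections.  Typed by helper19; the proof is `o9_parity_core` fed with REFLISO, KEY1, KEY2, PERP.
-/

set_option autoImplicit false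

namespace Cfsg.Agent.Helper5.O9

open Polynomial Module QuadraticMap
open Cfsg.Agent.Helper13 Cfsg.Agent.Helper13.OrthSS
open Cfsg.Agent.Helper5.O8 Cfsg.Agent.Helper2

universe u

-- PIECE O9-PARITY
theorem isReflProd_parity {F : Type u} [Field F] [CharP F 2] {V : Type u}
    [AddCommGroup V] [Module F V] [FiniteDimensional F V] (Q : QuadraticForm F V)
    (hQ : (polarBilin Q).Nondegenerate) (l : List V) (hl : ∀ a ∈ l, Q a ≠ 0)
    (h : Module.End F V) (hh : ∀ v, Q (h v) = Q v) (hbij : Function.Bijective h) :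
    (finrank F (LinearMap.ker ((l.map (refl Q)).prod * h - 1)) + l.length) % 2 =
      finrank F (LinearMap.ker (h - 1)) % 2 :=
  o9_parity_core Q (fun a ha x => refl_isometry Q a ha x)
    (fun g hg a ha hperp => finrank_ker_refl_mul_of_not_perp Q g hg a ha hperp)
    (fun g hg a ha c hc => finrank_ker_refl_mul_of_mem_range Q g hg a ha c hc)
    (fun g hg hb a hperp => mem_range_of_perp Q hQ g hg hb a hperp) l hl h hh hbij

end Cfsg.Agent.Helper5.O9
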