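import Mathlib
import Cfsg.Agent.Lib.O8.O8CYC

/-!
# O9-PPOLY (helper4): an irreducible polynomial of degree exactly `k` and exact order `q^k - 1`
-/

set_option autoImplicit false

namespace Cfsg.Agent.Helper5.O9

open Polynomial
open Cfsg.Agent.Helper5.O8

universe u

theorem o9_ppoly_cop (q k : ℕ) (hq : 2 ≤ q) (hk : 1 ≤ k) : Nat.Coprime (q ^ k - 1) q := by
  have hpos : 2 ≤ q ^ k := by
    calc 2 ≤ q := hq
      _ = q ^ 1 := (pow_one q).symm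
      _ ≤ q ^ k := Nat.pow_le_pow_right (by omega) hk
  have h1 : Nat.gcd (q ^ k - 1) q ∣ q ^ k := dvd_pow (Nat.gcd_dvd_right _ _) (by omega)
  have h2 : Nat.gcd (q ^ k - 1) q ∣ q ^ k - 1 := Nat.gcd_dvd_left _ _
  have h3 : Nat.gcd (q ^ k - 1) q ∣ (q ^ k - 1) + 1 := by
    have : q ^ k - 1 + 1 = q ^ k := by omega
    rw [this]; exact h1
  exact Nat.dvd_one.mp ((Nat.dvd_add_right h2).1 h3)

theorem o9_ppoly_deg (q k e : ℕ) (hq : 2 ≤ q) (hk : 1 ≤ k) (he : 1 ≤ e)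
    (h : ∀ n : ℕ, e ∣ n ↔ (q ^ k - 1) ∣ q ^ n - 1) : e = k := by
  have h1 : e ∣ k := (h k).2 dvd_rfl
  have h2 : (q ^ k - 1) ∣ q ^ e - 1 := (h e).1 dvd_rfl
  have h3 : 2 ≤ q ^ e := by
    calc 2 ≤ q := hq
      _ = q ^ 1 := (pow_one q).symm
      _ ≤ q ^ e := Nat.pow_le_pow_right (by omega) he
  have h4 : q ^ k - 1 ≤ q ^ e - 1 := Nat.le_of_dvd (by omega) h2
  have hpos : 2 ≤ q ^ k := by
    calc 2 ≤ q := hq
      _ = q ^ 1 := (pow_one q).symm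
      _ ≤ q ^ k := Nat.pow_le_pow_right (by omega) hk
  have h5 : q ^ k ≤ q ^ e := by omega
  have h6 : k ≤ e := (Nat.pow_le_pow_iff_right (by omega)).1 h5
  exact Nat.le_antisymm (Nat.le_of_dvd (by omega) h1) h6

-- PIECE O9-PPOLY
theorem exists_plus_poly {F : Type u} [Field F] [Fintype F] (k : ℕ) (hk : 1 ≤ k) :
    ∃ f : F[X], f.Monic ∧ Irreducible f ∧ f.natDegree = k ∧
      f ∣ X ^ (Fintype.card F ^ k - 1) - 1 ∧
      ∀ j : ℕ, f ∣ X ^ j - 1 → (Fintype.card F ^ k - 1) ∣ j := by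
  have hq2 : 2 ≤ Fintype.card F := Fintype.one_lt_card
  have hpos : 2 ≤ Fintype.card F ^ k := by
    calc 2 ≤ Fintype.card F := hq2
      _ = Fintype.card F ^ 1 := (pow_one _).symm
      _ ≤ Fintype.card F ^ k := Nat.pow_le_pow_right (by omega) hk
  obtain ⟨f, hmon, hirr, hdvd, hord, hdeg⟩ :=
    exists_cyc_poly (F := F) (Fintype.card F ^ k - 1) (by omega)
      (o9_ppoly_cop (Fintype.card F) k hq2 hk)
  exact ⟨f, hmon, hirr,
    o9_ppoly_deg (Fintype.card F) k f.natDegree hq2 hk hirr.natDegree_pos hdeg, hdvd, hord⟩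

end Cfsg.Agent.Helper5.O9
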