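import Mathlib
import Cfsg.Prelude.Def_Classical
import Cfsg.Agent.Lib.Helper5.O8Defs
import Cfsg.Agent.Lib.Helper5.O9Defs
import Cfsg.Agent.Lib.Helper5.O8Main
import Cfsg.Agent.Lib.Helper2.AffExt
import Cfsg.Agent.Lib.Helper17.SpectrumIterate

/-!
# O9-PRODISO (helper28): a product of reflections is an isometry with an inverse of the same kind
-/

set_option autoImplicit false

namespace Cfsg.Agent.Helper5.O9

open Polynomial Module QuadraticMap
open Cfsg.Agent.Helper13 Cfsg.Agent.Helper13.OrthSS Cfsg.Agent.Helper13.Dual Cfsg.Agent.Helper10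
open Cfsg.Agent.Helper5.O8 Cfsg.Agent.Helper2

universe u

/-- a reflection in a nonsingular vector is an isometry (own copy, characteristic 2) -/
theorem o9_prodiso_refl_iso {F : Type u} [Field F] [CharP F 2] {V : Type u} [AddCommGroup V]
    [Module F V] (Q : QuadraticForm F V) (a : V) (ha : Q a ≠ 0) (x : V) :
    Q (refl Q a x) = Q x := by
  have h2 : (2 : F) = 0 := by
    have := CharP.cast_eq_zero F 2
    exact_mod_cast this
  rw [refl_apply, QuadraticMap.map_add (⇑Q) x, QuadraticMap.map_smul, polar_smul_right, smul_eq_mul,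
    smul_eq_mul]
  have e : (Q a)⁻¹ * polar Q x a * ((Q a)⁻¹ * polar Q x a) * Q a +
      (Q a)⁻¹ * polar Q x a * polar Q x a = 2 * ((Q a)⁻¹ * polar Q x a * polar Q x a) := by
    field_simp
    ring
  rw [add_assoc, e, h2, zero_mul, add_zero]

theorem o9_prodiso_list_iso {F : Type u} [Field F] [CharP F 2] {V : Type u} [AddCommGroup V]
    [Module F V] (Q : QuadraticForm F V) (l : List V) (hlQ : ∀ a ∈ l, Q a ≠ 0) (v : V) :
    Q ((l.map (refl Q)).prod v) = Q v := by
  induction l generalizing v with
  | nil => simp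
  | cons a l ih =>
    rw [List.map_cons, List.prod_cons, Module.End.mul_apply,
      o9_prodiso_refl_iso Q a (hlQ a (List.mem_cons_self ..))]
    exact ih (fun b hb => hlQ b (List.mem_cons_of_mem _ hb)) v

-- PIECE O9-PRODISO
theorem isReflProd_facts {F : Type u} [Field F] [CharP F 2] {V : Type u} [AddCommGroup V]
    [Module F V] {Q : QuadraticForm F V} {x : Module.End F V} {k : ℕ} (h : IsReflProd Q x k) :
    (∀ v, Q (x v) = Q v) ∧ ∃ y : Module.End F V, x * y = 1 ∧ y * x = 1 ∧ IsReflProd Q y k := by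
  obtain ⟨l, hl, hlQ, rfl⟩ := h
  refine ⟨o9_prodiso_list_iso Q l hlQ, (l.reverse.map (refl Q)).prod, isReflProd_reverse l, ?_,
    l.reverse, by rw [List.length_reverse, hl], fun a ha => hlQ a (List.mem_reverse.1 ha), rfl⟩
  have h := isReflProd_reverse (Q := Q) l.reverse
  rwa [List.reverse_reverse] at h

end Cfsg.Agent.Helper5.O9
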