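import Mathlib
import Cfsg.Prelude.Def_Classical
import Cfsg.Agent.Lib.Helper5.O8Defs
import Cfsg.Agent.Lib.Helper5.O9Defs
import Cfsg.Agent.Lib.Helper13.OrthReal

/-!
# S3590 piece O9-SUMPROD: `x.prodMap y` is a product of `k + m` reflections of the orthogonal sum.
-/

set_option autoImplicit false

namespace Cfsg.Agent.Helper5.O9

open Polynomial Module QuadraticMap
open Cfsg.Agent.Helper13 Cfsg.Agent.Helper13.OrthSS
open Cfsg.Agent.Helper5.O8

universe u

theorem o9_sumprod_refl_left {F : Type*} [Field F] {V W : Type*} [AddCommGroup V]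
    [Module F V] [AddCommGroup W] [Module F W] (Q : QuadraticForm F V) (Q' : QuadraticForm F W)
    (a : V) :
    refl (QuadraticMap.prod Q Q') (a, 0) = (refl Q a).prodMap (1 : Module.End F W) := by
  apply LinearMap.ext
  rintro ⟨v, w⟩
  rw [refl_apply, LinearMap.prodMap_apply, refl_apply, polar_prod', QuadraticMap.prod_apply,
    map_zero, add_zero]
  simp only [polar, add_zero, map_zero, sub_self, Module.End.one_apply]
  refine Prod.ext ?_ ?_
  · simp
  · simp

theorem o9_sumprod_refl_right {F : Type*} [Field F] {V W : Type*} [AddCommGroup V]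
    [Module F V] [AddCommGroup W] [Module F W] (Q : QuadraticForm F V) (Q' : QuadraticForm F W)
    (b : W) :
    refl (QuadraticMap.prod Q Q') (0, b) = (1 : Module.End F V).prodMap (refl Q' b) := by
  apply LinearMap.ext
  rintro ⟨v, w⟩
  rw [refl_apply, LinearMap.prodMap_apply, refl_apply, polar_prod', QuadraticMap.prod_apply,
    map_zero, zero_add]
  simp only [polar, add_zero, map_zero, sub_self, Module.End.one_apply]
  refine Prod.ext ?_ ?_
  · simp
  · simp

theorem o9_sumprod_prod_left {F : Type*} [Field F] {V W : Type*} [AddCommGroup V]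
    [Module F V] [AddCommGroup W] [Module F W] (Q : QuadraticForm F V) (Q' : QuadraticForm F W)
    (l : List V) :
    ((l.map (fun a => ((a, 0) : V × W))).map (refl (QuadraticMap.prod Q Q'))).prod =
      ((l.map (refl Q)).prod).prodMap (1 : Module.End F W) := by
  induction l with
  | nil =>
    simp only [List.map_nil, List.prod_nil]
    exact LinearMap.prodMap_one.symm
  | cons a l ih =>
    rw [List.map_cons, List.map_cons, List.prod_cons, List.map_cons, List.prod_cons, ih,
      o9_sumprod_refl_left, LinearMap.prodMap_mul, one_mul]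

theorem o9_sumprod_prod_right {F : Type*} [Field F] {V W : Type*} [AddCommGroup V]
    [Module F V] [AddCommGroup W] [Module F W] (Q : QuadraticForm F V) (Q' : QuadraticForm F W)
    (l : List W) :
    ((l.map (fun b => ((0, b) : V × W))).map (refl (QuadraticMap.prod Q Q'))).prod =
      (1 : Module.End F V).prodMap ((l.map (refl Q')).prod) := by
  induction l with
  | nil =>
    simp only [List.map_nil, List.prod_nil]
    exact LinearMap.prodMap_one.symm
  | cons a l ih =>
    rw [List.map_cons, List.map_cons, List.prod_cons, List.map_cons, List.prod_cons, ih,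
      o9_sumprod_refl_right, LinearMap.prodMap_mul, one_mul]

-- PIECE O9-SUMPROD
theorem isReflProd_prodMap {F : Type u} [Field F] {V W : Type u} [AddCommGroup V]
    [Module F V] [AddCommGroup W] [Module F W] (Q : QuadraticForm F V) (Q' : QuadraticForm F W)
    {x : Module.End F V} {y : Module.End F W} {k m : ℕ} (hx : IsReflProd Q x k)
    (hy : IsReflProd Q' y m) : IsReflProd (QuadraticMap.prod Q Q') (x.prodMap y) (k + m) := by
  obtain ⟨l, hl, hlQ, rfl⟩ := hx
  obtain ⟨l', hl', hlQ', rfl⟩ := hy
  refine ⟨l.map (fun a => ((a, 0) : V × W)) ++ l'.map (fun b => ((0, b) : V × W)), ?_, ?_, ?_⟩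
  · rw [List.length_append, List.length_map, List.length_map, hl, hl']
  · intro c hc
    rcases List.mem_append.1 hc with h | h
    · obtain ⟨a, ha, rfl⟩ := List.mem_map.1 h
      rw [QuadraticMap.prod_apply, map_zero, add_zero]
      exact hlQ a ha
    · obtain ⟨b, hb, rfl⟩ := List.mem_map.1 h
      rw [QuadraticMap.prod_apply, map_zero, zero_add]
      exact hlQ' b hb
  · rw [List.map_append, List.prod_append, o9_sumprod_prod_left, o9_sumprod_prod_right,
      LinearMap.prodMap_mul, mul_one, one_mul]

end Cfsg.Agent.Helper5.O9
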