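import Mathlib
import Cfsg.Prelude.Def_Classical
import Cfsg.Agent.Lib.Helper5.O8Defs
import Cfsg.Agent.Lib.Helper5.O9Defs
import Cfsg.Agent.Lib.O9.O9QLNPRODCore
import Cfsg.Agent.Lib.O9.O9SUMPROD

/-!
# S3590 piece O9-QLNPROD: `qln_prod`
-/

set_option autoImplicit false

namespace Cfsg.Agent.Helper5.O9

open Polynomial Module QuadraticMap
open Cfsg.Agent.Helper13 Cfsg.Agent.Helper13.OrthSS
open Cfsg.Agent.Helper5.O8

universe u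

-- PIECE O9-QLNPROD
theorem qln_prod {F : Type u} [Field F] [Fintype F] {d₁ d₂ n₁ n₂ : ℕ} {t₁ t₂ : Prop}
    (h₁ : QLN F d₁ n₁ t₁ False) (h₂ : QLN F d₂ n₂ t₂ False) :
    QLN F (d₁ + d₂) (Nat.lcm n₁ n₂) (t₁ ↔ t₂) False :=
  o9_qlnprod_core (fun V W _ _ _ _ Q Q' _ _ _ _ hx hy => isReflProd_prodMap Q Q' hx hy) h₁ h₂

end Cfsg.Agent.Helper5.O9
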