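import Mathlib
import Cfsg.Agent.Lib.Helper5.O9Defs

set_option autoImplicit false

namespace Cfsg.Agent.Helper5.O9

open Polynomial Module QuadraticMap

universe u

theorem o9_conjprod_polar {F : Type u} [Field F] {V : Type u} [AddCommGroup V]
    [Module F V] (Q : QuadraticForm F V) (g : Module.End F V) (hg : ∀ v, Q (g v) = Q v)
    (u w : V) : polar Q (g u) (g w) = polar Q u w := by
  unfold polar
  rw [← map_add, hg, hg, hg]

theorem o9_conjprod_refl {F : Type u} [Field F] {V : Type u} [AddCommGroup V]
    [Module F V] (Q : QuadraticForm F V) (g y : Module.End F V) (hg : ∀ v, Q (g v) = Q v)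
    (hgy : g * y = 1) (a : V) : g * refl Q a * y = refl Q (g a) := by
  apply LinearMap.ext
  intro v
  have hgyv : g (y v) = v := by
    have := congrArg (fun f : Module.End F V => f v) hgy
    simpa using this
  rw [Module.End.mul_apply, Module.End.mul_apply, refl_apply, refl_apply, map_add, map_smul, hgyv,
    hg]
  congr 2
  rw [← o9_conjprod_polar Q g hg (y v) a, hgyv]

theorem o9_conjprod_list {F : Type u} [Field F] {V : Type u} [AddCommGroup V]
    [Module F V] (Q : QuadraticForm F V) (g y : Module.End F V) (hg : ∀ v, Q (g v) = Q v)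
    (hgy : g * y = 1) (hyg : y * g = 1) (l : List V) :
    g * (l.map (refl Q)).prod * y = ((l.map (fun a => g a)).map (refl Q)).prod := by
  induction l with
  | nil => simp [hgy]
  | cons a l ih =>
    rw [List.map_cons, List.prod_cons, List.map_cons, List.map_cons, List.prod_cons, ← ih,
      ← o9_conjprod_refl Q g y hg hgy a]
    calc g * (refl Q a * (l.map (refl Q)).prod) * y
        = g * refl Q a * (1 : Module.End F V) * ((l.map (refl Q)).prod * y) := by
          simp only [mul_assoc, one_mul]
      _ = g * refl Q a * y * (g * (l.map (refl Q)).prod * y) := by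
          rw [← hyg]; simp only [mul_assoc]

-- PIECE O9-CONJPROD
theorem isReflProd_conj {F : Type u} [Field F] {V : Type u} [AddCommGroup V]
    [Module F V] (Q : QuadraticForm F V) (g y : Module.End F V) (hg : ∀ v, Q (g v) = Q v)
    (hgy : g * y = 1) (hyg : y * g = 1) {x : Module.End F V} {k : ℕ} (h : IsReflProd Q x k) :
    IsReflProd Q (g * x * y) k := by
  obtain ⟨l, hl, hlQ, rfl⟩ := h
  refine ⟨l.map (fun a => g a), by rw [List.length_map, hl], ?_, o9_conjprod_list Q g y hg hgy hyg l⟩
  intro b hb
  obtain ⟨a, ha, rfl⟩ := List.mem_map.1 hb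
  rw [hg]
  exact hlQ a ha

end Cfsg.Agent.Helper5.O9
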