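import Mathlib
import Cfsg.Agent.Lib.Helper5.O9Defs

set_option autoImplicit false

namespace Cfsg.Agent.Helper5.O9

open Polynomial Module QuadraticMap

universe u

section albert

variable {F : Type u} [Field F] {U : Type u} [AddCommGroup U] [Module F U]

/-- the component of `u` in `x^⊥` -/
theorem o9_albert_mem_ker (β : LinearMap.BilinForm F U) (hsymm : ∀ x y, β x y = β y x)
    (x : U) (hx : β x x ≠ 0) (u : U) :
    u - (β u x / β x x) • x ∈ LinearMap.ker (β x) := by
  rw [LinearMap.mem_ker, map_sub, map_smul, smul_eq_mul, div_mul_cancel₀ _ hx, hsymm x u, sub_self]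

theorem o9_albert_finrank_ker [FiniteDimensional F U] (β : LinearMap.BilinForm F U)
    (x : U) (hx : β x x ≠ 0) (n : ℕ) (hn : finrank F U = n + 1) :
    finrank F (LinearMap.ker (β x)) = n := by
  have hsurj : Function.Surjective (β x) := by
    intro c
    refine ⟨(c / β x x) • x, ?_⟩
    rw [map_smul, smul_eq_mul, div_mul_cancel₀ _ hx]
  have hr : finrank F (LinearMap.range (β x)) = 1 := by
    rw [LinearMap.range_eq_top.2 hsurj, finrank_top, finrank_self]
  have := LinearMap.finrank_range_add_finrank_ker (β x)
  omega

/-- the restricted form on `x^⊥` is nondegenerate -/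
theorem o9_albert_restrict_nondeg (β : LinearMap.BilinForm F U) (hsymm : ∀ x y, β x y = β y x)
    (hnd : ∀ x, (∀ y, β x y = 0) → x = 0) (x : U) (hx : β x x ≠ 0)
    (w : U) (hw : w ∈ LinearMap.ker (β x))
    (h : ∀ w' ∈ LinearMap.ker (β x), β w w' = 0) : w = 0 := by
  apply hnd
  intro u
  have h1 := h _ (o9_albert_mem_ker β hsymm x hx u)
  rw [map_sub, map_smul, smul_eq_mul, hsymm w x, LinearMap.mem_ker.1 hw, mul_zero, sub_zero] at h1
  exact h1

/-- a good first vector: `β x x ≠ 0` and `x^⊥` is not alternating -/
theorem o9_albert_good [CharP F 2] [FiniteDimensional F U] (β : LinearMap.BilinForm F U)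
    (hsymm : ∀ x y, β x y = β y x) (hnd : ∀ x, (∀ y, β x y = 0) → x = 0)
    (hna : ∃ x, β x x ≠ 0) (n : ℕ) (hn : finrank F U = n + 2) :
    ∃ x, β x x ≠ 0 ∧ ∃ w ∈ LinearMap.ker (β x), β w w ≠ 0 := by
  obtain ⟨x, hx⟩ := hna
  by_cases hex : ∃ w ∈ LinearMap.ker (β x), β w w ≠ 0
  · exact ⟨x, hx, hex⟩
  · simp only [not_exists, not_and, not_not] at hex
    have h2 : (2 : F) = 0 := by
      have := CharP.cast_eq_zero F 2
      exact_mod_cast this
    -- a nonzero vector of x^⊥
    have hfr : finrank F (LinearMap.ker (β x)) = n + 1 := o9_albert_finrank_ker β x hx (n + 1) hn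
    have hpos : 0 < finrank F (LinearMap.ker (β x)) := by omega
    obtain ⟨⟨y, hy⟩, hy0⟩ := (Module.finrank_pos_iff_exists_ne_zero).1 hpos
    have hy0' : y ≠ 0 := fun h => hy0 (Subtype.ext h)
    -- z0 in x^⊥ with β y z0 ≠ 0
    have hz0 : ∃ z0 ∈ LinearMap.ker (β x), β y z0 ≠ 0 := by
      by_contra hcon
      simp only [not_exists, not_and, not_not] at hcon
      exact hy0' (o9_albert_restrict_nondeg β hsymm hnd x hx y hy hcon)
    obtain ⟨z0, hz0m, hz0⟩ := hz0
    set z : U := (β y z0)⁻¹ • z0 with hz
    have hzm : z ∈ LinearMap.ker (β x) := Submodule.smul_mem _ _ hz0m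
    have hyz : β y z = 1 := by
      rw [hz, map_smul, smul_eq_mul, inv_mul_cancel₀ hz0]
    have hxy : β x y = 0 := LinearMap.mem_ker.1 hy
    have hxz : β x z = 0 := LinearMap.mem_ker.1 hzm
    have hyy : β y y = 0 := hex y hy
    have hzz : β z z = 0 := hex z hzm
    refine ⟨x + y, ?_, x + (β x x) • z, ?_, ?_⟩
    · have : β (x + y) (x + y) = β x x := by
        simp only [map_add, LinearMap.add_apply, hsymm y x, hxy, hyy, add_zero]
      rw [this]; exact hx
    · rw [LinearMap.mem_ker]
      simp only [map_add, LinearMap.add_apply, map_smul, smul_eq_mul, hsymm y x, hxy, hxz, hyz,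
        add_zero, mul_one, zero_add]
      rw [← two_mul, h2, zero_mul]
    · have : β (x + (β x x) • z) (x + (β x x) • z) = β x x := by
        simp only [map_add, LinearMap.add_apply, map_smul, LinearMap.smul_apply, smul_eq_mul,
          hsymm z x, hxz, hzz, mul_zero, add_zero]
      rw [this]; exact hx

theorem o9_albert_restrict (β : LinearMap.BilinForm F U) (W : Submodule F U) (a c : W) :
    β.restrict W a c = β (a : U) (c : U) := rfl

end albert

theorem o9_albert_aux {F : Type u} [Field F] [CharP F 2] :
    ∀ (n : ℕ) (U : Type u) [AddCommGroup U] [Module F U] [FiniteDimensional F U]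
      (β : LinearMap.BilinForm F U), finrank F U = n →
      (∀ x y, β x y = β y x) → (∀ x, (∀ y, β x y = 0) → x = 0) → (∃ x, β x x ≠ 0) →
      ∃ b : Fin n → U, (∀ i j, i ≠ j → β (b i) (b j) = 0) ∧ (∀ i, β (b i) (b i) ≠ 0) ∧
        ∀ u, u = ∑ i, (β u (b i) / β (b i) (b i)) • b i := by
  intro n
  induction n with
  | zero =>
    intro U _ _ _ β hn hsymm hnd hna
    exfalso
    obtain ⟨x, hx⟩ := hna
    have hss : Subsingleton U := Module.finrank_zero_iff.1 hn
    have : x = 0 := Subsingleton.elim _ _
    rw [this] at hx
    simp at hx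
  | succ n ih =>
    intro U _ _ _ β hn hsymm hnd hna
    rcases Nat.eq_zero_or_pos n with hn0 | hnpos
    · -- dimension one
      subst hn0
      obtain ⟨x, hx⟩ := hna
      have hfr : finrank F (LinearMap.ker (β x)) = 0 := o9_albert_finrank_ker β x hx 0 hn
      have hss : Subsingleton (LinearMap.ker (β x)) := Module.finrank_zero_iff.1 hfr
      refine ⟨fun _ => x, ?_, fun _ => hx, ?_⟩
      · intro i j hij
        exact absurd (Fin.ext (by omega)) hij
      · intro u
        have hm := o9_albert_mem_ker β hsymm x hx u
        have h0 : (⟨u - (β u x / β x x) • x, hm⟩ : LinearMap.ker (β x)) = 0 :=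
          Subsingleton.elim _ _
        have h0' : u - (β u x / β x x) • x = 0 := congrArg Subtype.val h0
        rw [Fin.sum_univ_succ]
        simp only [Finset.univ_eq_empty, Finset.sum_empty, add_zero]
        exact sub_eq_zero.1 h0'
    · -- dimension at least two
      obtain ⟨m, rfl⟩ : ∃ m, n = m + 1 := ⟨n - 1, by omega⟩
      obtain ⟨x, hx, w0, hw0m, hw0⟩ := o9_albert_good β hsymm hnd hna m hn
      set W := LinearMap.ker (β x) with hW
      have hfr : finrank F W = m + 1 := o9_albert_finrank_ker β x hx (m + 1) hn
      obtain ⟨b', horth', hne', hexp'⟩ := ih W (β.restrict W) hfr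
        (fun a c => by simp only [o9_albert_restrict]; exact hsymm _ _)
        (fun a ha => by
          apply Subtype.ext
          apply o9_albert_restrict_nondeg β hsymm hnd x hx a.1 a.2
          intro w' hw'
          have := ha ⟨w', hw'⟩
          simpa only [o9_albert_restrict] using this)
        ⟨⟨w0, hw0m⟩, by simpa only [o9_albert_restrict] using hw0⟩
      have hxb : ∀ i, β x (b' i : U) = 0 := fun i => LinearMap.mem_ker.1 (b' i).2
      refine ⟨Fin.cons x (fun i => (b' i : U)), ?_, ?_, ?_⟩
      · intro i j hij
        induction i using Fin.cases with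
        | zero =>
          induction j using Fin.cases with
          | zero => exact absurd rfl hij
          | succ j => simp only [Fin.cons_zero, Fin.cons_succ]; exact hxb j
        | succ i =>
          induction j using Fin.cases with
          | zero => simp only [Fin.cons_zero, Fin.cons_succ]; rw [hsymm]; exact hxb i
          | succ j =>
            simp only [Fin.cons_succ]
            have hij' : i ≠ j := fun h => hij (by rw [h])
            have := horth' i j hij'
            simpa only [o9_albert_restrict] using this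
      · intro i
        induction i using Fin.cases with
        | zero => simpa only [Fin.cons_zero] using hx
        | succ i =>
          simp only [Fin.cons_succ]
          have := hne' i
          simpa only [o9_albert_restrict] using this
      · intro u
        have hm := o9_albert_mem_ker β hsymm x hx u
        have he := hexp' ⟨u - (β u x / β x x) • x, hm⟩
        have he' := congrArg Subtype.val he
        simp only [Submodule.coe_sum, Submodule.coe_smul, o9_albert_restrict]
          at he'
        rw [Fin.sum_univ_succ]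
        simp only [Fin.cons_zero, Fin.cons_succ]
        have hterm : ∀ i : Fin (m + 1),
            β (u - (β u x / β x x) • x) (b' i : U) = β u (b' i : U) := by
          intro i
          rw [map_sub, LinearMap.sub_apply, map_smul, LinearMap.smul_apply, hxb i, smul_zero,
            sub_zero]
        simp only [hterm] at he'
        rw [← he']
        abel

-- PIECE O9-ALBERT
theorem exists_orthogonal_expansion {F : Type u} [Field F] [CharP F 2] {U : Type u}
    [AddCommGroup U] [Module F U] [FiniteDimensional F U] (β : LinearMap.BilinForm F U)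
    (hsymm : ∀ x y, β x y = β y x) (hnd : β.Nondegenerate) (hna : ∃ x, β x x ≠ 0) :
    ∃ b : Fin (finrank F U) → U, (∀ i j, i ≠ j → β (b i) (b j) = 0) ∧ (∀ i, β (b i) (b i) ≠ 0) ∧
      ∀ u, u = ∑ i, (β u (b i) / β (b i) (b i)) • b i :=
  o9_albert_aux (finrank F U) U β rfl hsymm hnd.1 hna

end Cfsg.Agent.Helper5.O9
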