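import Mathlib
import Cfsg.Agent.Lib.Helper5.O9Defs

/-!
# S3590 piece O9-INVPROD: a product of reflections in pairwise orthogonal vectors
-/

set_option autoImplicit false

namespace Cfsg.Agent.Helper5.O9

open Polynomial Module QuadraticMap

universe u

theorem o9_invprod_polar_sum {F : Type u} [Field F] {V : Type u} [AddCommGroup V]
    [Module F V] (Q : QuadraticForm F V) (a : V) (c : V → F) (l : List V)
    (h : ∀ b ∈ l, polar Q a b = 0) :
    polar Q (l.map (fun b => c b • b)).sum a = 0 := by
  induction l with
  | nil => simp [polar]
  | cons b l ih =>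
    rw [List.map_cons, List.sum_cons, polar_add_left, polar_smul_left, polar_comm Q b a,
      h b List.mem_cons_self, ih (fun b' hb' => h b' (List.mem_cons_of_mem _ hb')), smul_zero,
      add_zero]

-- PIECE O9-INVPROD
theorem prod_refl_apply_of_pairwise {F : Type u} [Field F] {V : Type u} [AddCommGroup V]
    [Module F V] (Q : QuadraticForm F V) (l : List V)
    (horth : l.Pairwise (fun a b => polar Q a b = 0)) (v : V) :
    (l.map (refl Q)).prod v = v + (l.map (fun a => ((Q a)⁻¹ * polar Q v a) • a)).sum := by
  induction l with
  | nil => simp
  | cons a l ih =>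
    rw [List.pairwise_cons] at horth
    rw [List.map_cons, List.prod_cons, Module.End.mul_apply, ih horth.2, refl_apply,
      polar_add_left,
      o9_invprod_polar_sum Q a (fun b => (Q b)⁻¹ * polar Q v b) l horth.1, add_zero,
      List.map_cons, List.sum_cons]
    abel

end Cfsg.Agent.Helper5.O9
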