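import Mathlib
import Cfsg.Agent.Lib.Helper5.O9Defs
import Cfsg.Agent.Lib.O9.O9INVPROD

/-!
# S3590 piece O9-INV, core: an involutive isometry `x` with some `B(xu,u) ≠ 0` is a product of
reflections, given the facts of O9-INVFORM and Albert's theorem (O9-ALBERT) as hypotheses.
-/

set_option autoImplicit false

namespace Cfsg.Agent.Helper5.O9

open Polynomial Module QuadraticMap

universe u

theorem o9_inv_core {F : Type u} [Field F] [CharP F 2] {V : Type u} [AddCommGroup V]
    [Module F V] [FiniteDimensional F V] (Q : QuadraticForm F V)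
    (hQ : (polarBilin Q).Nondegenerate) (x : Module.End F V)
    (hu : ∃ u, polar Q (x u) u ≠ 0)
    (hform : (∀ u w, polar Q ((x - 1) u) w = polar Q u ((x - 1) w)) ∧
      (∀ u w, polar Q ((x - 1) u) ((x - 1) w) = 0) ∧
      (∀ u, Q ((x - 1) u) = polar Q (x u) u))
    (halbert : ∀ β : LinearMap.BilinForm F ↥(LinearMap.range (x - 1)),
      (∀ a b, β a b = β b a) → β.Nondegenerate → (∃ a, β a a ≠ 0) →
      ∃ b : Fin (finrank F ↥(LinearMap.range (x - 1))) → ↥(LinearMap.range (x - 1)),
        (∀ i j, i ≠ j → β (b i) (b j) = 0) ∧ (∀ i, β (b i) (b i) ≠ 0) ∧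
        ∀ u, u = ∑ i, (β u (b i) / β (b i) (b i)) • b i) :
    ∃ k, IsReflProd Q x k := by
  obtain ⟨h1, h2, h3⟩ := hform
  have h2F : (2 : F) = 0 := by
    have := CharP.cast_eq_zero F 2
    exact_mod_cast this
  -- a linear section of `x - 1` on its range
  obtain ⟨s, hs⟩ := (x - 1).rangeRestrict.exists_rightInverse_of_surjective
    (LinearMap.range_rangeRestrict (x - 1))
  have hs' : ∀ a : ↥(LinearMap.range (x - 1)), (x - 1) (s a) = (a : V) := by
    intro a
    have := congrArg (fun f : ↥(LinearMap.range (x - 1)) →ₗ[F] ↥(LinearMap.range (x - 1)) =>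
      ((f a : ↥(LinearMap.range (x - 1))) : V)) hs
    simpa using this
  -- the Wall form
  let χ : LinearMap.BilinForm F ↥(LinearMap.range (x - 1)) :=
    (polarBilin Q).compl₁₂ (LinearMap.range (x - 1)).subtype s
  have hχ : ∀ a b : ↥(LinearMap.range (x - 1)), χ a b = polar Q (a : V) (s b) := by
    intro a b
    simp [χ]
  have hsymm : ∀ a b : ↥(LinearMap.range (x - 1)), χ a b = χ b a := by
    intro a b
    rw [hχ, hχ]
    calc polar Q (a : V) (s b) = polar Q ((x - 1) (s a)) (s b) := by rw [hs']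
      _ = polar Q (s a) ((x - 1) (s b)) := h1 _ _
      _ = polar Q (s a) (b : V) := by rw [hs']
      _ = polar Q (b : V) (s a) := polar_comm _ _ _
  have hdiag : ∀ a : ↥(LinearMap.range (x - 1)), χ a a = Q (a : V) := by
    intro a
    rw [hχ]
    have e1 : polar Q (a : V) (s a) = polar Q (x (s a)) (s a) := by
      rw [← hs' a, LinearMap.sub_apply, Module.End.one_apply, polar_sub_left, polar_self,
        two_smul, ← two_mul, h2F, zero_mul, sub_zero]
    rw [e1, ← h3, hs']
  have hleft : ∀ a : ↥(LinearMap.range (x - 1)), (∀ b, χ a b = 0) → a = 0 := by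
    intro a ha
    apply Subtype.ext
    apply hQ.1 (a : V)
    intro w
    have hb := ha ⟨(x - 1) w, LinearMap.mem_range_self _ w⟩
    rw [hsymm, hχ] at hb
    rw [polarBilin_apply_apply]
    calc polar Q (a : V) w = polar Q ((x - 1) (s a)) w := by rw [hs']
      _ = polar Q (s a) ((x - 1) w) := h1 _ _
      _ = polar Q ((x - 1) w) (s a) := polar_comm _ _ _
      _ = 0 := hb
  have hnd : χ.Nondegenerate := by
    refine ⟨hleft, ?_⟩
    intro a ha
    exact hleft a (fun b => by rw [hsymm]; exact ha b)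
  have hna : ∃ a, χ a a ≠ 0 := by
    obtain ⟨u, hu⟩ := hu
    refine ⟨⟨(x - 1) u, LinearMap.mem_range_self _ u⟩, ?_⟩
    rw [hdiag]
    show Q ((x - 1) u) ≠ 0
    rw [h3]
    exact hu
  obtain ⟨b, hb1, hb2, hb3⟩ := halbert χ hsymm hnd hna
  refine ⟨finrank F ↥(LinearMap.range (x - 1)),
    List.ofFn (fun i => ((b i : ↥(LinearMap.range (x - 1))) : V)), List.length_ofFn, ?_, ?_⟩
  · intro a ha
    rw [List.mem_ofFn] at ha
    obtain ⟨i, rfl⟩ := ha
    show Q ((b i : ↥(LinearMap.range (x - 1))) : V) ≠ 0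
    rw [← hdiag]
    exact hb2 i
  · apply LinearMap.ext
    intro v
    have hpair : (List.ofFn (fun i => ((b i : ↥(LinearMap.range (x - 1))) : V))).Pairwise
        (fun a c => polar Q a c = 0) := by
      rw [List.pairwise_ofFn]
      intro i j _
      show polar Q ((b i : ↥(LinearMap.range (x - 1))) : V) (b j : V) = 0
      rw [← hs' (b i), ← hs' (b j)]
      exact h2 _ _
    rw [prod_refl_apply_of_pairwise Q _ hpair v, List.map_ofFn, List.sum_ofFn]
    have hexp := hb3 ⟨(x - 1) v, LinearMap.mem_range_self _ v⟩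
    have hexp' := congrArg (fun y : ↥(LinearMap.range (x - 1)) => (y : V)) hexp
    simp only [Submodule.coe_sum, Submodule.coe_smul] at hexp'
    have hcoef : ∀ i, χ ⟨(x - 1) v, LinearMap.mem_range_self _ v⟩ (b i) / χ (b i) (b i) =
        (Q ((b i : ↥(LinearMap.range (x - 1))) : V))⁻¹ * polar Q v (b i : V) := by
      intro i
      rw [hdiag, hχ, div_eq_inv_mul]
      show (Q ((b i : ↥(LinearMap.range (x - 1))) : V))⁻¹ * polar Q ((x - 1) v) (s (b i)) = _
      rw [h1, hs']
    simp only [hcoef] at hexp'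
    show x v = v + ∑ i, ((Q ((b i : ↥(LinearMap.range (x - 1))) : V))⁻¹ *
      polar Q v ((b i : ↥(LinearMap.range (x - 1))) : V)) • ((b i : ↥(LinearMap.range (x - 1))) : V)
    rw [← hexp', LinearMap.sub_apply, Module.End.one_apply]
    abel

end Cfsg.Agent.Helper5.O9
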