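import Mathlib
import Cfsg.Agent.Lib.Helper5.O9Defs

/-!
# O9-INVFORM (helper4): `involution_form_facts` for S3590
-/

set_option autoImplicit false

namespace Cfsg.Agent.Helper5.O9

open Module QuadraticMap

universe u

/-- An isometry preserves the polar form. -/
theorem o9_invform_polar {F : Type u} [Field F] {V : Type u} [AddCommGroup V]
    [Module F V] (Q : QuadraticForm F V) (x : Module.End F V) (hx : ∀ v, Q (x v) = Q v)
    (u w : V) : polar Q (x u) (x w) = polar Q u w := by
  unfold polar
  rw [← map_add, hx, hx, hx]

-- PIECE O9-INVFORM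
theorem involution_form_facts {F : Type u} [Field F] [CharP F 2] {V : Type u} [AddCommGroup V]
    [Module F V] (Q : QuadraticForm F V) (x : Module.End F V) (hx : ∀ v, Q (x v) = Q v)
    (hxx : x * x = 1) :
    (∀ u w, polar Q ((x - 1) u) w = polar Q u ((x - 1) w)) ∧
    (∀ u w, polar Q ((x - 1) u) ((x - 1) w) = 0) ∧
    (∀ u, Q ((x - 1) u) = polar Q (x u) u) := by
  have hxx' : ∀ v, x (x v) = v := by
    intro v
    have := congrArg (fun f : Module.End F V => f v) hxx
    simpa using this
  have hp := o9_invform_polar Q x hx
  have hswap : ∀ u w, polar Q (x u) w = polar Q u (x w) := by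
    intro u w
    have := hp u (x w)
    rw [hxx'] at this
    exact this
  refine ⟨?_, ?_, ?_⟩
  · intro u w
    simp only [LinearMap.sub_apply, Module.End.one_apply, polar_sub_left, polar_sub_right]
    rw [hswap]
  · intro u w
    simp only [LinearMap.sub_apply, Module.End.one_apply, polar_sub_left, polar_sub_right]
    rw [hp, hswap u w]
    have h2 : polar Q u w + polar Q u w = 0 := CharTwo.add_self_eq_zero _
    have h3 : polar Q u (x w) + polar Q u (x w) = 0 := CharTwo.add_self_eq_zero _
    linear_combination h2 - h3
  · intro u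
    simp only [LinearMap.sub_apply, Module.End.one_apply]
    have h1 : Q (x u - u) = Q (x u) + Q (-u) + polar Q (x u) (-u) := by
      rw [sub_eq_add_neg]; exact QuadraticMap.map_add Q _ _
    rw [h1, QuadraticMap.map_neg, hx, polar_neg_right]
    have h2 : Q u + Q u = 0 := CharTwo.add_self_eq_zero _
    rw [h2, zero_add]
    exact CharTwo.neg_eq _

end Cfsg.Agent.Helper5.O9
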