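import Mathlib
import Cfsg.Agent.Lib.Helper5.O9Defs
import Cfsg.Agent.Lib.O9.O9INVFORM
import Cfsg.Agent.Lib.O9.O9ALBERT
import Cfsg.Agent.Lib.O9.O9INVCore

/-!
# S3590 piece O9-INV: an involutive isometry `x` with some `B(xu,u) ≠ 0` is a product of reflections
-/

set_option autoImplicit false

namespace Cfsg.Agent.Helper5.O9

open Polynomial Module QuadraticMap

universe u

-- PIECE O9-INV
theorem isReflProd_of_involution {F : Type u} [Field F] [CharP F 2] {V : Type u} [AddCommGroup V]
    [Module F V] [FiniteDimensional F V] (Q : QuadraticForm F V)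
    (hQ : (polarBilin Q).Nondegenerate) (x : Module.End F V) (hx : ∀ v, Q (x v) = Q v)
    (hxx : x * x = 1) (hu : ∃ u, polar Q (x u) u ≠ 0) : ∃ k, IsReflProd Q x k :=
  o9_inv_core Q hQ x hu (involution_form_facts Q x hx hxx)
    (fun β hsymm hnd hna => exists_orthogonal_expansion β hsymm hnd hna)

end Cfsg.Agent.Helper5.O9
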