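import Mathlib
import Cfsg.Agent.Lib.Helper5.O9Defs

/-!
# S3590 piece O9-REALPROD, core: the statements of O9-INV (for `σ`) and O9-CONJPROD are hypotheses
-/

set_option autoImplicit false

namespace Cfsg.Agent.Helper5.O9

open Polynomial Module QuadraticMap

universe u

theorem o9_realprod_pow_iso {F : Type u} [Field F] {V : Type u} [AddCommGroup V] [Module F V]
    (Q : QuadraticForm F V) (A : Module.End F V) (hA : ∀ v, Q (A v) = Q v) (j : ℕ) :
    ∀ v, Q ((A ^ j) v) = Q v := by
  induction j with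
  | zero => intro v; rw [pow_zero, Module.End.one_apply]
  | succ j ih => intro v; rw [pow_succ, Module.End.mul_apply, ih, hA]

/-- `A^j σ A^j = σ` if `σ² = 1` and `σ A σ A = 1` -/
theorem o9_realprod_pow_conj {M : Type*} [Monoid M] (A σ : M) (hσσ : σ * σ = 1)
    (hinv : σ * A * σ * A = 1) (j : ℕ) : A ^ j * σ * A ^ j = σ := by
  have h1 : A * σ * A = σ := by
    calc A * σ * A = (σ * σ) * (A * σ * A) := by rw [hσσ, one_mul]
      _ = σ * (σ * A * σ * A) := by simp only [mul_assoc]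
      _ = σ := by rw [hinv, mul_one]
  induction j with
  | zero => simp
  | succ j ih =>
    calc A ^ (j + 1) * σ * A ^ (j + 1) = A * (A ^ j * σ * A ^ j) * A := by
          rw [pow_succ' A j]
          nth_rewrite 2 [← pow_succ' A j]
          rw [pow_succ A j]
          simp only [mul_assoc]
      _ = σ := by rw [ih, h1]

/-- core of O9-REALPROD -/
theorem o9_realprod_core {F : Type u} [Field F] {V : Type u} [AddCommGroup V]
    [Module F V] (Q : QuadraticForm F V) (A σ : Module.End F V) (hA : ∀ v, Q (A v) = Q v)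
    (hσσ : σ * σ = 1) (hinv : σ * A * σ * A = 1) (n : ℕ) (hn : Odd n) (hAn : A ^ n = 1)
    (hINV : ∃ k, IsReflProd Q σ k)
    (hCONJ : ∀ (g y : Module.End F V), (∀ v, Q (g v) = Q v) → g * y = 1 → y * g = 1 →
      ∀ (x : Module.End F V) (k : ℕ), IsReflProd Q x k → IsReflProd Q (g * x * y) k) :
    InL Q A := by
  obtain ⟨j, hj⟩ := hn
  obtain ⟨k, hk⟩ := hINV
  have h1 : A ^ j * A ^ (j + 1) = 1 := by
    rw [← pow_add, ← hAn, hj]; congr 1; ring
  have h2 : A ^ (j + 1) * A ^ j = 1 := by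
    rw [← pow_add, ← hAn, hj]; congr 1; ring
  have h3 : A ^ j * σ * A ^ (j + 1) = σ * A := by
    rw [pow_succ, ← mul_assoc, o9_realprod_pow_conj A σ hσσ hinv j]
  have h4 : IsReflProd Q (σ * A) k := by
    rw [← h3]
    exact hCONJ (A ^ j) (A ^ (j + 1)) (o9_realprod_pow_iso Q A hA j) h1 h2 σ k hk
  have h5 : A = σ * (σ * A) := by rw [← mul_assoc, hσσ, one_mul]
  refine ⟨k + k, ⟨k, rfl⟩, ?_⟩
  rw [h5]
  exact isReflProd_mul hk h4

end Cfsg.Agent.Helper5.O9
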