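import Mathlib
import Cfsg.Agent.Lib.Helper5.O9Defs
import Cfsg.Agent.Lib.O9.O9REALPRODCore
import Cfsg.Agent.Lib.O9.O9INV
import Cfsg.Agent.Lib.O9.O9CONJPROD

/-!
# S3590 piece O9-REALPROD: an isometry `A` of odd order inverted by an involutive isometry `σ`
(with some `B(σ u, u) ≠ 0`) is a product of an even number of reflections
(wrapper of `o9_realprod_core` with O9-INV and O9-CONJPROD)
-/

set_option autoImplicit false

namespace Cfsg.Agent.Helper5.O9

open Polynomial Module QuadraticMap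

universe u

-- PIECE O9-REALPROD
theorem inL_of_real {F : Type u} [Field F] [CharP F 2] {V : Type u} [AddCommGroup V]
    [Module F V] [FiniteDimensional F V] (Q : QuadraticForm F V)
    (hQ : (polarBilin Q).Nondegenerate) (A σ : Module.End F V) (hA : ∀ v, Q (A v) = Q v)
    (hσ : ∀ v, Q (σ v) = Q v) (hσσ : σ * σ = 1) (hinv : σ * A * σ * A = 1) (n : ℕ) (hn : Odd n)
    (hAn : A ^ n = 1) (hu : ∃ u, polar Q (σ u) u ≠ 0) : InL Q A :=
  o9_realprod_core Q A σ hA hσσ hinv n hn hAn (isReflProd_of_involution Q hQ σ hσ hσσ hu)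
    (fun g y hg hgy hyg _ _ h => isReflProd_conj Q g y hg hgy hyg h)

end Cfsg.Agent.Helper5.O9
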