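import Mathlib
import Cfsg.Agent.Lib.Helper5.O9Defs
import Cfsg.Agent.Lib.Helper13.OrthReal

/-!
# S3590 piece O9-SELFDUAL: the field model of a self-dual irreducible factor, with the field involution `σ`
(copy of helper13's `OrthSS.qreal_selfdual` with `σ` as an extra output)
-/

set_option autoImplicit false

namespace Cfsg.Agent.Helper5.O9

open Polynomial Module QuadraticMap
open Cfsg.Agent.Helper13 Cfsg.Agent.Helper13.OrthSS Cfsg.Agent.Helper13.Dual
  Cfsg.Agent.Helper13.SS Cfsg.Agent.Helper13.SympSS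

universe u

-- PIECE O9-SELFDUAL
theorem qreal_selfdual_sigma {F : Type u} [Field F] [Fintype F] [CharP F 2] {m : ℕ} {f : F[X]}
    (hm : 1 ≤ m) (hf : Irreducible f) (hmon : f.Monic) (hfm : f ∣ X ^ m - 1)
    (hfd : dualPoly m f = f) (hne : AdjoinRoot.root f ^ (m - 1) ≠ AdjoinRoot.root f) :
    ∃ (V : Type u) (_ : AddCommGroup V) (_ : Module F V) (_ : FiniteDimensional F V)
      (A σ : Module.End F V) (Q : QuadraticForm F V),
      A ^ m = 1 ∧ (polarBilin Q).Nondegenerate ∧ (∀ v, Q (A v) = Q v) ∧ A.charpoly = f ∧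
        (∀ v, Q (σ v) = Q v) ∧ σ * σ = 1 ∧ σ * A * σ * A = 1 ∧ ∃ u, polar Q (σ u) u ≠ 0 := by
  classical
  haveI : Fact (Irreducible f) := ⟨hf⟩
  haveI : FiniteDimensional F (AdjoinRoot f) := (AdjoinRoot.powerBasis hf.ne_zero).finite
  set k := AdjoinRoot f with hk
  set s : k := AdjoinRoot.root f with hs
  have hss' : s * s ^ (m - 1) = 1 := root_mul_inv hm hfm
  have hsm : s ^ m = 1 := root_pow_eq_one hfm
  have hσ0 : aeval (s ^ (m - 1)) f = 0 := by
    have := aeval_inv_dualPoly m f
    rwa [hfd] at this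
  set σ : k →ₐ[F] k := AdjoinRoot.liftAlgHom f (Algebra.ofId F k) (s ^ (m - 1)) hσ0 with hσ
  have hσroot : σ s = s ^ (m - 1) := AdjoinRoot.liftAlgHom_root _ _ _ _
  have hσ2 : ∀ x, σ (σ x) = x := by
    have h1 : σ.comp σ = AlgHom.id F k := by
      apply AdjoinRoot.algHom_ext
      rw [AlgHom.comp_apply, hσroot, map_pow, hσroot, inv_pow_eq_root hm hfm]
      rfl
    intro x
    exact AlgHom.congr_fun h1 x
  -- an element with nonzero trace
  obtain ⟨z, hz⟩ : ∃ z : k, z + σ z ≠ 0 := by
    by_cases h2 : (2 : k) = 0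
    · refine ⟨s, ?_⟩
      intro h
      apply hne
      rw [← hσroot]
      have h3 : σ s = - s := by rw [eq_neg_iff_add_eq_zero, add_comm]; exact h
      rw [h3]
      have : s + s = 0 := by rw [← two_mul, h2, zero_mul]
      exact (eq_neg_iff_add_eq_zero.2 this).symm
    · refine ⟨1, ?_⟩
      rw [map_one, one_add_one_eq_two]
      exact h2
  obtain ⟨τ', hτ'⟩ := Module.Projective.exists_dual_ne_zero F hz
  set τ : k →ₗ[F] F := τ' + τ' ∘ₗ σ.toLinearMap with hτ
  have hτa : ∀ x, τ x = τ' x + τ' (σ x) := fun x => rfl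
  have hτ0 : τ ≠ 0 := by
    intro h
    apply hτ'
    have := LinearMap.congr_fun h z
    rw [hτa, ← map_add] at this
    exact this
  set B : LinearMap.BilinForm F k :=
    LinearMap.mk₂ F (fun u v => τ' (u * σ v))
      (by intro a b c; rw [add_mul, map_add])
      (by intro c a b; rw [smul_mul_assoc, map_smul])
      (by intro a b c; rw [map_add, mul_add, map_add])
      (by intro c a b; rw [map_smul, mul_smul_comm, map_smul]) with hB
  have hBa : ∀ u v : k, B u v = τ' (u * σ v) := fun u v => rfl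
  set Q : QuadraticForm F k := LinearMap.BilinMap.toQuadraticMap B with hQ
  have hQa : ∀ u : k, Q u = τ' (u * σ u) := by
    intro u
    rw [hQ, LinearMap.BilinMap.toQuadraticMap_apply, hBa]
  have hpol : ∀ u v : k, polar Q u v = τ (u * σ v) := by
    intro u v
    have e : σ (u * σ v) = v * σ u := by rw [map_mul σ, hσ2, mul_comm]
    rw [hQ, LinearMap.BilinMap.polar_toQuadraticMap, hBa, hBa, hτa, e]
  refine ⟨k, inferInstance, inferInstance, inferInstance, Algebra.lmul F k s, σ.toLinearMap, Q,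
    ?_, ?_, ?_, ?_, ?_, ?_, ?_, ?_⟩
  · rw [lmul_pow, hsm, map_one]
  · apply nondeg_of_polar
    intro x hx
    by_contra hx0
    apply hτ0
    apply LinearMap.ext
    intro w
    have := hx (σ (x⁻¹ * w))
    rw [hpol, hσ2, ← mul_assoc, mul_inv_cancel₀ hx0, one_mul] at this
    rw [this]
    rfl
  · intro u
    rw [hQa, hQa]
    show τ' (s * u * σ (s * u)) = _
    have e0 : σ (s * u) = s ^ (m - 1) * σ u := by rw [map_mul, hσroot]
    rw [e0]
    congr 1
    calc s * u * (s ^ (m - 1) * σ u) = (s * s ^ (m - 1)) * (u * σ u) := by ring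
      _ = u * σ u := by rw [hss', one_mul]
  · exact charpoly_mulRoot f hmon
  · intro u
    rw [hQa, hQa]
    show τ' (σ u * σ (σ u)) = _
    rw [hσ2, mul_comm]
  · apply LinearMap.ext
    intro x
    exact hσ2 x
  · apply LinearMap.ext
    intro x
    show σ (s * σ (s * x)) = x
    rw [map_mul, hσ2, hσroot, ← mul_assoc, mul_comm (s ^ (m - 1)) s, hss', one_mul]
  · -- some `y` with `τ y ≠ 0`, and `y` is a square
    obtain ⟨y, hy⟩ : ∃ y : k, τ y ≠ 0 := by
      by_contra hcon
      push_neg at hcon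
      exact hτ0 (LinearMap.ext hcon)
    haveI : Finite k := Module.finite_of_finite F
    haveI : CharP k 2 := charP_of_injective_algebraMap (algebraMap F k).injective 2
    obtain ⟨w, hw⟩ := FiniteField.isSquare_of_char_two (ringChar.eq k 2) y
    refine ⟨σ w, ?_⟩
    show polar Q (σ (σ w)) (σ w) ≠ 0
    rw [hpol, hσ2, ← hw]
    exact hy

end Cfsg.Agent.Helper5.O9
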