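import Mathlib
import Cfsg.Prelude.Def_Classical
import Cfsg.Agent.Lib.Helper5.O8Defs
import Cfsg.Agent.Lib.Helper5.O9Defs

/-!
# S3590, piece O9-REFLCONJ: conjugating a reflection by an isometry
-/

set_option autoImplicit false

namespace Cfsg.Agent.Helper5.O9

open Polynomial Module QuadraticMap
open Cfsg.Agent.Helper13 Cfsg.Agent.Helper13.OrthSS
open Cfsg.Agent.Helper5.O8

universe u

-- PIECE O9-REFLCONJ
theorem refl_conj {F : Type u} [Field F] {V V' : Type u} [AddCommGroup V] [Module F V]
    [AddCommGroup V'] [Module F V'] (Q : QuadraticForm F V) (Q' : QuadraticForm F V')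
    (e : V ≃ₗ[F] V') (he : ∀ x, Q' (e x) = Q x) (a : V) (y : V') :
    e (refl Q a (e.symm y)) = refl Q' (e a) y := by
  have hpol : polar Q' y (e a) = polar Q (e.symm y) a := by
    unfold polar
    have h1 : y + e a = e (e.symm y + a) := by rw [map_add, LinearEquiv.apply_symm_apply]
    have h2 : Q' y = Q (e.symm y) := by rw [← he, LinearEquiv.apply_symm_apply]
    rw [h1, he, he, h2]
  rw [refl_apply, refl_apply, map_add, map_smul, LinearEquiv.apply_symm_apply, he, hpol]

end Cfsg.Agent.Helper5.O9
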