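import Mathlib
import Cfsg.Prelude.Def_Classical
import Cfsg.Agent.Lib.Helper5.O8Defs
import Cfsg.Agent.Lib.Helper5.O9Defs
import Cfsg.Agent.Lib.Helper13.OrthType2
import Cfsg.Agent.Lib.Helper2.OrthOrders
import Cfsg.Agent.Lib.O9.O9REFLCONJ

/-! S3590 farm-out (designer helper5), piece O9-STD: transport of a typed space `QLN F 8 n False dbl`
to the standard minus-type space, giving an element of `L0 F ζ`. -/

set_option autoImplicit false

namespace Cfsg.Agent.Helper5.O9

open Polynomial Module QuadraticMap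
open Cfsg.Agent.Helper13 Cfsg.Agent.Helper13.OrthSS
open Cfsg.Agent.Helper5.O8

universe u

theorem o9_std_conj_eq {F : Type*} [Field F] {V W : Type*} [AddCommGroup V] [Module F V]
    [AddCommGroup W] [Module F W] (e : V ≃ₗ[F] W) (B : Module.End F V) :
    e.conj B = e.conjRingEquiv B := rfl

theorem o9_std_conj_pow {F : Type*} [Field F] {V W : Type*} [AddCommGroup V] [Module F V]
    [AddCommGroup W] [Module F W] (e : V ≃ₗ[F] W) (A : Module.End F V) (k : ℕ) :
    (e.conj A) ^ k = e.conj (A ^ k) := by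
  rw [o9_std_conj_eq, o9_std_conj_eq, map_pow]

theorem o9_std_conj_refl {F : Type u} [Field F] {V V' : Type u} [AddCommGroup V] [Module F V]
    [AddCommGroup V'] [Module F V'] (Q : QuadraticForm F V) (Q' : QuadraticForm F V')
    (e : V ≃ₗ[F] V') (he : ∀ x, Q' (e x) = Q x) (a : V) :
    e.conj (refl Q a) = refl Q' (e a) := by
  apply LinearMap.ext
  intro y
  rw [LinearEquiv.conj_apply_apply]
  exact refl_conj Q Q' e he a y

theorem o9_std_conj_prod {F : Type u} [Field F] {V V' : Type u} [AddCommGroup V] [Module F V]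
    [AddCommGroup V'] [Module F V'] (Q : QuadraticForm F V) (Q' : QuadraticForm F V')
    (e : V ≃ₗ[F] V') (he : ∀ x, Q' (e x) = Q x) (l : List V) :
    e.conj ((l.map (refl Q)).prod) = ((l.map e).map (refl Q')).prod := by
  induction l with
  | nil =>
    rw [List.map_nil, List.prod_nil, List.map_nil, List.map_nil, List.prod_nil, o9_std_conj_eq,
      map_one]
  | cons a l ih =>
    rw [List.map_cons, List.prod_cons, List.map_cons, List.map_cons, List.prod_cons,
      o9_std_conj_eq, map_mul, ← o9_std_conj_eq, ← o9_std_conj_eq, ih,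
      o9_std_conj_refl Q Q' e he]

theorem o9_std_inL {F : Type u} [Field F] {V V' : Type u} [AddCommGroup V] [Module F V]
    [AddCommGroup V'] [Module F V'] (Q : QuadraticForm F V) (Q' : QuadraticForm F V')
    (e : V ≃ₗ[F] V') (he : ∀ x, Q' (e x) = Q x) (A : Module.End F V) (hA : InL Q A) :
    InL Q' (e.conj A) := by
  obtain ⟨k, hk, l, hl, hlQ, hAl⟩ := hA
  refine ⟨k, hk, l.map e, by rw [List.length_map, hl], ?_, ?_⟩
  · intro b hb
    obtain ⟨a, ha, rfl⟩ := List.mem_map.1 hb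
    rw [he]
    exact hlQ a ha
  · rw [hAl, o9_std_conj_prod Q Q' e he]

-- PIECE O9-STD
theorem exists_L0_of_qln {F : Type u} [Field F] [Fintype F] [CharP F 2] (ζ : F)
    (hζ : ∀ t : F, t ^ 2 + t + ζ ≠ 0) (n : ℕ) (dbl : Prop) (h : QLN F 8 n False dbl) :
    ∃ g : ↥(L0 F ζ), orderOf g = n ∧ 0 < n ∧
      (dbl → ∃ v : V0 F, (∑ i ∈ Finset.range n,
        ((g : (Module.End F (V0 F))ˣ) : Module.End F (V0 F)) ^ i) v ≠ 0) := by
  classical
  obtain ⟨V, _, _, _, A, Q, hAn, hn, hQ, hAQ, hdim, heven, htype, hinL, hdbl⟩ := h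
  have han := aniso_of_rootless ζ hζ
  have hQ' : (polarBilin (Q0 F ζ)).Nondegenerate :=
    Cfsg.Agent.Helper2.Orth.nondeg_minus (m := 3) 1 ζ han
  have hnh : ¬ IsHyp (Q0 F ζ) := not_isHyp_minusMat 3 1 ζ han
  have hdim' : finrank F V = finrank F (V0 F) := by
    rw [hdim, Module.finrank_fintype_fun_eq_card]
    simp
  obtain ⟨e, he⟩ := equiv_of_type Q (Q0 F ζ) hQ hQ' hdim' (by rw [hdim]; exact heven)
    (by rw [htype]; exact (iff_false_intro hnh).symm)
  have hAn1 : A ^ n = 1 := by rw [← hAn]; exact pow_orderOf_eq_one A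
  have hgn : (e.conj A) ^ n = 1 := by
    rw [o9_std_conj_pow, hAn1, o9_std_conj_eq, map_one]
  have hu : IsUnit (e.conj A) := IsUnit.of_pow_eq_one hgn (Nat.pos_iff_ne_zero.mp hn)
  have hval : ((hu.unit : (Module.End F (V0 F))ˣ) : Module.End F (V0 F)) = e.conj A :=
    hu.unit_spec
  have hmem : hu.unit ∈ L0 F ζ := by
    show InL (Q0 F ζ) ((hu.unit : (Module.End F (V0 F))ˣ) : Module.End F (V0 F))
    rw [hval]
    exact o9_std_inL Q (Q0 F ζ) e he A hinL
  refine ⟨⟨hu.unit, hmem⟩, ?_, hn, ?_⟩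
  · rw [← Subgroup.orderOf_coe]
    show orderOf hu.unit = n
    rw [← orderOf_units, hval, o9_std_conj_eq, ← hAn]
    exact MulEquiv.orderOf_eq e.conjRingEquiv.toMulEquiv A
  · intro hd
    obtain ⟨v, hv⟩ := hdbl hd
    refine ⟨e v, ?_⟩
    show (∑ i ∈ Finset.range n,
      ((hu.unit : (Module.End F (V0 F))ˣ) : Module.End F (V0 F)) ^ i) (e v) ≠ 0
    rw [hval, LinearMap.sum_apply]
    have hterm : ∀ i ∈ Finset.range n, ((e.conj A) ^ i) (e v) = e ((A ^ i) v) := by
      intro i _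
      rw [o9_std_conj_pow, LinearEquiv.conj_apply_apply, e.symm_apply_apply]
    rw [Finset.sum_congr rfl hterm, ← map_sum, ← LinearMap.sum_apply]
    intro h0
    exact hv (e.map_eq_zero_iff.mp h0)

end Cfsg.Agent.Helper5.O9
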