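import Mathlib
import Cfsg.Agent.Lib.Helper5.O9Defs

/-!
# S3590 piece O9-JORD: `finrank_ker_add_le_rootMultiplicity`
-/

set_option autoImplicit false

namespace Cfsg.Agent.Helper5.O9

open Polynomial Module

universe u

/-- the kernels of the powers of a nilpotent-on-`x` endomorphism grow strictly -/
theorem o9_jord_chain {F : Type u} [Field F] {V : Type u} [AddCommGroup V]
    [Module F V] [FiniteDimensional F V] (N : Module.End F V) (k : ℕ) (x : V)
    (h0 : (N ^ (k + 1)) x = 0) (h1 : (N ^ k) x ≠ 0) :
    ∀ j : ℕ, j ≤ k → finrank F (LinearMap.ker N) + j ≤ finrank F (LinearMap.ker (N ^ (j + 1))) := by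
  intro j
  induction j with
  | zero =>
    intro _
    rw [zero_add, pow_one, add_zero]
  | succ j ih =>
    intro hj
    have ih' := ih (by omega)
    have hlt : LinearMap.ker (N ^ (j + 1)) < LinearMap.ker (N ^ (j + 1 + 1)) := by
      rw [SetLike.lt_iff_le_and_exists]
      refine ⟨?_, (N ^ (k - (j + 1))) x, ?_, ?_⟩
      · intro v hv
        rw [LinearMap.mem_ker] at hv ⊢
        rw [pow_succ', Module.End.mul_apply, hv, map_zero]
      · rw [LinearMap.mem_ker, ← Module.End.mul_apply, ← pow_add]
        have : j + 1 + 1 + (k - (j + 1)) = k + 1 := by omega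
        rw [this]; exact h0
      · rw [LinearMap.mem_ker, ← Module.End.mul_apply, ← pow_add]
        have : j + 1 + (k - (j + 1)) = k := by omega
        rw [this]; exact h1
    have := Submodule.finrank_lt_finrank_of_lt hlt
    omega

-- PIECE O9-JORD
theorem finrank_ker_add_le_rootMultiplicity {F : Type u} [Field F] {V : Type u} [AddCommGroup V]
    [Module F V] [FiniteDimensional F V] (g : Module.End F V) (k : ℕ) (x : V)
    (h0 : ((g - 1) ^ (k + 1)) x = 0) (h1 : ((g - 1) ^ k) x ≠ 0) :
    finrank F (LinearMap.ker (g - 1)) + k ≤ g.charpoly.rootMultiplicity 1 := by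
  have hchain := o9_jord_chain (g - 1) k x h0 h1 k le_rfl
  have hle := LinearMap.finrank_genEigenspace_le g (1 : F) (k + 1)
  rw [Module.End.genEigenspace_nat, one_smul] at hle
  exact hchain.trans hle

end Cfsg.Agent.Helper5.O9
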