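import Mathlib
import Cfsg.Prelude.Def_Classical
import Cfsg.Agent.Lib.Helper5.O8Defs
import Cfsg.Agent.Lib.Helper5.O9Defs
import Cfsg.Agent.Lib.Helper5.O8Main
import Cfsg.Agent.Lib.Helper2.AffExt
import Cfsg.Agent.Lib.Helper17.SpectrumIterate

/-!
# O9-NORMPOLY (helper28): the geometric sum of length `2 ^ t * m` in characteristic 2
-/

set_option autoImplicit false

namespace Cfsg.Agent.Helper5.O9

open Polynomial Module QuadraticMap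
open Cfsg.Agent.Helper13 Cfsg.Agent.Helper13.OrthSS Cfsg.Agent.Helper13.Dual Cfsg.Agent.Helper10
open Cfsg.Agent.Helper5.O8 Cfsg.Agent.Helper2

universe u

-- PIECE O9-NORMPOLY
theorem geom_sum_two_pow_mul {F : Type u} [Field F] [CharP F 2] (t m : ℕ) :
    ∑ i ∈ Finset.range (2 ^ t * m), (X : F[X]) ^ i =
      (X - 1) ^ (2 ^ t - 1) * (∑ i ∈ Finset.range m, (X : F[X]) ^ i) ^ (2 ^ t) := by
  have hne : (X - 1 : F[X]) ≠ 0 := by
    have h := X_sub_C_ne_zero (1 : F)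
    rwa [map_one] at h
  apply mul_right_cancel₀ hne
  rw [geom_sum_mul]
  have h2 : (2 ^ t - 1) + 1 = 2 ^ t := Nat.sub_add_cancel Nat.one_le_two_pow
  have h3 : ((X : F[X]) ^ m) ^ (2 ^ t) - 1 = ((X : F[X]) ^ m - 1) ^ (2 ^ t) := by
    rw [sub_pow_char_pow, one_pow]
  have h4 : (X - 1 : F[X]) ^ (2 ^ t - 1) * (X - 1) = (X - 1) ^ (2 ^ t) := by
    rw [← pow_succ, h2]
  calc (X : F[X]) ^ (2 ^ t * m) - 1 = ((X : F[X]) ^ m) ^ (2 ^ t) - 1 := by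
        rw [mul_comm (2 ^ t) m, pow_mul]
    _ = ((X : F[X]) ^ m - 1) ^ (2 ^ t) := h3
    _ = ((∑ i ∈ Finset.range m, (X : F[X]) ^ i) * (X - 1)) ^ (2 ^ t) := by rw [geom_sum_mul]
    _ = (∑ i ∈ Finset.range m, (X : F[X]) ^ i) ^ (2 ^ t) * (X - 1) ^ (2 ^ t) := mul_pow _ _ _
    _ = (∑ i ∈ Finset.range m, (X : F[X]) ^ i) ^ (2 ^ t) *
          ((X - 1 : F[X]) ^ (2 ^ t - 1) * (X - 1)) := by rw [h4]
    _ = (X - 1) ^ (2 ^ t - 1) * (∑ i ∈ Finset.range m, (X : F[X]) ^ i) ^ (2 ^ t) * (X - 1) := by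
        ring

end Cfsg.Agent.Helper5.O9
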