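import Mathlib
import Cfsg.Agent.Lib.Helper5.O9Defs
import Cfsg.Agent.Lib.O9.O9JORD
import Cfsg.Agent.Lib.O9.O9NORMPOLY

/-! S3590 farm-out (designer helper5), piece O9-SUBKEY: if the norm map of `g` (order `n`) is nonzero
then `2 n` divides every admissible bound `N₁ 2^t₁`. -/

set_option autoImplicit false

namespace Cfsg.Agent.Helper5.O9

open Polynomial Module QuadraticMap

universe u

-- PIECE O9-SUBKEY
theorem two_mul_orderOf_dvd {F : Type u} [Field F] [CharP F 2] {V : Type u} [AddCommGroup V]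
    [Module F V] [FiniteDimensional F V] (g : Module.End F V) (n : ℕ) (hn : orderOf g = n)
    (hn0 : 0 < n) (heven : Even (finrank F (LinearMap.ker (g - 1)))) (v : V)
    (hv : (∑ i ∈ Finset.range n, g ^ i) v ≠ 0) (N₁ t₁ : ℕ) (hpow : g ^ (N₁ * 2 ^ t₁) = 1)
    (hmult : g.charpoly.rootMultiplicity 1 ≤ 2 ^ t₁) : 2 * n ∣ N₁ * 2 ^ t₁ := by
  obtain ⟨t, m, hm, hnm⟩ := Nat.exists_eq_two_pow_mul_odd (Nat.pos_iff_ne_zero.mp hn0)
  have hgn : g ^ n = 1 := by rw [← hn]; exact pow_orderOf_eq_one g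
  have hN : (∑ i ∈ Finset.range n, g ^ i) =
      aeval g (∑ i ∈ Finset.range n, (X : F[X]) ^ i) := by
    rw [map_sum]
    apply Finset.sum_congr rfl
    intro i _
    rw [map_pow, aeval_X]
  have hfac : aeval g (∑ i ∈ Finset.range n, (X : F[X]) ^ i) =
      (g - 1) ^ (2 ^ t - 1) * (aeval g (∑ i ∈ Finset.range m, (X : F[X]) ^ i)) ^ (2 ^ t) := by
    rw [hnm, geom_sum_two_pow_mul, map_mul, map_pow, map_pow, map_sub, aeval_X, map_one]
  set x : V := ((aeval g (∑ i ∈ Finset.range m, (X : F[X]) ^ i)) ^ (2 ^ t)) v with hx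
  have hNx : (∑ i ∈ Finset.range n, g ^ i) v = ((g - 1) ^ (2 ^ t - 1) : Module.End F V) x := by
    rw [hN, hfac, Module.End.mul_apply]
  have hx1 : ((g - 1) ^ (2 ^ t - 1) : Module.End F V) x ≠ 0 := by
    rw [← hNx]; exact hv
  have hzero : (g - 1) ((∑ i ∈ Finset.range n, g ^ i) v) = 0 := by
    rw [← Module.End.mul_apply, mul_geom_sum, hgn, sub_self, LinearMap.zero_apply]
  have hx0 : ((g - 1) ^ (2 ^ t - 1 + 1) : Module.End F V) x = 0 := by
    rw [pow_succ', Module.End.mul_apply, ← hNx]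
    exact hzero
  have hJ := finrank_ker_add_le_rootMultiplicity g (2 ^ t - 1) x hx0 hx1
  have hker : 2 ≤ finrank F (LinearMap.ker (g - 1)) := by
    have hmem : (∑ i ∈ Finset.range n, g ^ i) v ∈ LinearMap.ker (g - 1) := by
      rw [LinearMap.mem_ker]; exact hzero
    have hpos : 0 < finrank F (LinearMap.ker (g - 1)) := by
      apply Module.finrank_pos_iff_exists_ne_zero.mpr
      refine ⟨⟨_, hmem⟩, ?_⟩
      intro h
      exact hv (congrArg Subtype.val h)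
    obtain ⟨r, hr⟩ := heven
    omega
  have h2t : 1 ≤ 2 ^ t := Nat.one_le_two_pow
  have hlt : 2 ^ t < 2 ^ t₁ := by omega
  have htt : t + 1 ≤ t₁ := (Nat.pow_lt_pow_iff_right (by norm_num)).mp hlt
  have hdvd : n ∣ N₁ * 2 ^ t₁ := by
    rw [← hn]; exact orderOf_dvd_of_pow_eq_one hpow
  have hmN : m ∣ N₁ := by
    have h1 : m ∣ N₁ * 2 ^ t₁ := dvd_trans ⟨2 ^ t, by rw [hnm, mul_comm]⟩ hdvd
    exact Nat.Coprime.dvd_of_dvd_mul_right (Nat.Coprime.pow_right t₁ hm.coprime_two_right) h1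
  calc 2 * n = 2 ^ (t + 1) * m := by rw [hnm, pow_succ]; ring
    _ ∣ 2 ^ t₁ * N₁ := mul_dvd_mul (pow_dvd_pow 2 htt) hmN
    _ = N₁ * 2 ^ t₁ := mul_comm _ _

end Cfsg.Agent.Helper5.O9
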