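import Mathlib
import Cfsg.Prelude.Def_Classical
import Cfsg.Agent.Lib.Helper5.O8Defs
import Cfsg.Agent.Lib.Helper5.O9Defs
import Cfsg.Agent.Lib.Helper13.OrthType4
import Cfsg.Agent.Lib.Helper13.OrthReal
import Cfsg.Agent.Lib.O8.O8PROD
import Cfsg.Agent.Lib.O8.O8UNI2P
import Cfsg.Agent.Lib.O8.O8UNI2M
import Cfsg.Agent.Lib.O9.O9REFLISO
import Cfsg.Agent.Lib.O9.O9SUMPROD

/-!
# S3590 piece O9-U41: `r_a ⊕ r_b` on the orthogonal sum of two planes: order `2`, two reflections,
nonzero norm map; both types.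
-/

set_option autoImplicit false

namespace Cfsg.Agent.Helper5.O9

open Polynomial Module QuadraticMap
open Cfsg.Agent.Helper13 Cfsg.Agent.Helper13.OrthSS
open Cfsg.Agent.Helper5.O8

universe u

/-- a nonzero quadratic space with nondegenerate polar form has a nonsingular vector -/
theorem o9_u41_exists_nonsing {F : Type*} [Field F] {V : Type*} [AddCommGroup V] [Module F V]
    [Nontrivial V] (Q : QuadraticForm F V) (hQ : (polarBilin Q).Nondegenerate) :
    ∃ a : V, Q a ≠ 0 := by
  by_contra hcon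
  push Not at hcon
  obtain ⟨x, hx⟩ := exists_ne (0 : V)
  apply hx
  apply hQ.1
  intro y
  rw [polarBilin_apply_apply]
  unfold polar
  rw [hcon, hcon, hcon, sub_zero, sub_zero]

/-- some vector is not perpendicular to a nonsingular vector -/
theorem o9_u41_exists_moved {F : Type*} [Field F] {V : Type*} [AddCommGroup V] [Module F V]
    (Q : QuadraticForm F V) (hQ : (polarBilin Q).Nondegenerate) (a : V) (ha : Q a ≠ 0) :
    ∃ x : V, polar Q x a ≠ 0 := by
  by_contra hcon
  push Not at hcon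
  apply ha
  have h0 : a = 0 := by
    apply hQ.1
    intro y
    rw [polarBilin_apply_apply, polar_comm]
    exact hcon y
  rw [h0, map_zero]

theorem o9_u41_isReflProd_refl {F : Type*} [Field F] {V : Type*} [AddCommGroup V] [Module F V]
    (Q : QuadraticForm F V) (a : V) (ha : Q a ≠ 0) : IsReflProd Q (refl Q a) 1 := by
  refine ⟨[a], rfl, ?_, ?_⟩
  · intro c hc
    rw [List.mem_singleton] at hc
    rw [hc]
    exact ha
  · rw [List.map_cons, List.map_nil, List.prod_cons, List.prod_nil, mul_one]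

/-- the sum of two planes with a reflection on each -/
theorem o9_u41_build {F : Type u} [Field F] [Fintype F] [CharP F 2] {t₁ t₂ : Prop} (t : Prop)
    (ht : t ↔ (t₁ ↔ t₂)) (h₁ : QUni F 2 1 t₁) (h₂ : QUni F 2 1 t₂) :
    QLN F 4 (2 ^ 1) t True := by
  obtain ⟨V, _, _, _, _, Q, -, -, hQ, -, hd, hev, hty⟩ := h₁
  obtain ⟨W, _, _, _, _, Q', -, -, hQ', -, hd', hev', hty'⟩ := h₂
  have h2 : (2 : F) = 0 := CharTwo.two_eq_zero
  haveI : Nontrivial V := Module.nontrivial_of_finrank_pos (R := F) (by rw [hd]; norm_num)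
  haveI : Nontrivial W := Module.nontrivial_of_finrank_pos (R := F) (by rw [hd']; norm_num)
  obtain ⟨a, ha⟩ := o9_u41_exists_nonsing Q hQ
  obtain ⟨b, hb⟩ := o9_u41_exists_nonsing Q' hQ'
  obtain ⟨x, hx⟩ := o9_u41_exists_moved Q hQ a ha
  have ha0 : a ≠ 0 := by
    rintro rfl
    exact ha (map_zero Q)
  have hc0 : (Q a)⁻¹ * polar Q x a ≠ 0 := mul_ne_zero (inv_ne_zero ha) hx
  have hmove : x + refl Q a x = ((Q a)⁻¹ * polar Q x a) • a := by
    rw [refl_apply, ← add_assoc, ← two_smul F x, h2, zero_smul, zero_add]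
  have hmove0 : x + refl Q a x ≠ 0 := by
    rw [hmove]
    exact smul_ne_zero hc0 ha0
  have hra1 : refl Q a ≠ 1 := by
    intro h1
    apply hmove0
    rw [h1, Module.End.one_apply, ← two_smul F x, h2, zero_smul]
  refine ⟨V × W, inferInstance, inferInstance, inferInstance,
    (refl Q a).prodMap (refl Q' b), QuadraticMap.prod Q Q', ?_, by norm_num,
    nondeg_prod Q Q' hQ hQ', ?_, ?_, ⟨2, rfl⟩, ?_, ?_, ?_⟩
  · -- order
    rw [pow_one]
    haveI : Fact (Nat.Prime 2) := ⟨Nat.prime_two⟩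
    apply orderOf_eq_prime
    · rw [pow_two, LinearMap.prodMap_mul, refl_mul_self, refl_mul_self]
      exact LinearMap.prodMap_one
    · intro h1
      exact hra1 ((o8_prod_prodMap_eq_one _ _).1 h1).1
  · rintro ⟨v, w⟩
    show QuadraticMap.prod Q Q' (refl Q a v, refl Q' b w) = QuadraticMap.prod Q Q' (v, w)
    rw [QuadraticMap.prod_apply, QuadraticMap.prod_apply, refl_isometry Q a ha,
      refl_isometry Q' b hb]
  · rw [Module.finrank_prod, hd, hd']
  · rw [isHyp_prod_iff Q Q' hQ hQ' (hd ▸ hev) (hd' ▸ hev'), hty, hty']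
    exact ht.symm
  · exact ⟨1 + 1, ⟨1, rfl⟩, isReflProd_prodMap Q Q' (o9_u41_isReflProd_refl Q a ha)
      (o9_u41_isReflProd_refl Q' b hb)⟩
  · intro _
    refine ⟨(x, 0), ?_⟩
    rw [pow_one, Finset.sum_range_succ, Finset.sum_range_one, pow_zero, pow_one]
    intro h0
    apply hmove0
    have h3 := congrArg Prod.fst h0
    simpa using h3

-- PIECE O9-U41
theorem qln_four_one {F : Type u} [Field F] [Fintype F] [CharP F 2] :
    QLN F 4 (2 ^ 1) True True ∧ QLN F 4 (2 ^ 1) False True := by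
  constructor
  · exact o9_u41_build True (by tauto) (quni_two_plus (F := F)) (quni_two_plus (F := F))
  · exact o9_u41_build False (by tauto) (quni_two_plus (F := F)) (quni_two_minus (F := F))

end Cfsg.Agent.Helper5.O9
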