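import Mathlib
import Cfsg.Agent.Lib.Helper5.O8Defs
import Cfsg.Agent.Lib.Helper5.O9Defs
import Cfsg.Agent.Lib.O8.O8SIEGPOW
import Cfsg.Agent.Lib.O8.O8SIEGONE
import Cfsg.Agent.Lib.O8.O8GEOM2
import Cfsg.Agent.Lib.O8.O8PLANE

/-!
# S3590 piece O9-SIEGFOUR: an involution of a plane gives a Jordan block of size 4 on `H ⊕ W`
-/

set_option autoImplicit false

namespace Cfsg.Agent.Helper5.O9

open Polynomial Module QuadraticMap
open Cfsg.Agent.Helper5.O8

universe u

theorem o9_siegfour_add_self {F : Type u} [Field F] [CharP F 2] {V : Type u} [AddCommGroup V]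
    [Module F V] (v : V) : v + v = 0 := by
  have h2 : (2 : F) = 0 := by
    have := CharP.cast_eq_zero F 2
    exact_mod_cast this
  rw [← two_smul F v, h2, zero_smul]

theorem o9_siegfour_apply {F : Type u} [Field F] {W : Type u} [AddCommGroup W] [Module F W]
    (Q : QuadraticForm F W) (w : W) (h : Module.End F W) :
    siegel Q w h ((0, 1), 0) = ((Q w, 1), w) := by
  rw [siegel_apply]
  simp

-- PIECE O9-SIEGFOUR
theorem siegel_four {F : Type u} [Field F] [CharP F 2] {V : Type u} [AddCommGroup V]
    [Module F V] [FiniteDimensional F V] (hfin : finrank F V = 2) (Q : QuadraticForm F V)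
    (hQ : (polarBilin Q).Nondegenerate) (A : Module.End F V) (hA : ∀ v, Q (A v) = Q v)
    (hAA : A * A = 1) (w : V) (hw : (A - 1) w ≠ 0) :
    siegel Q w A ^ 4 = 1 ∧ (siegel Q w A - 1) ^ 3 ≠ 0 := by
  have h2F : (2 : F) = 0 := by
    have := CharP.cast_eq_zero F 2
    exact_mod_cast this
  have hAAv : ∀ v, A (A v) = v := fun v => by
    have := LinearMap.congr_fun hAA v
    simpa using this
  have hNN : (A - 1 : Module.End F V) * (A - 1) = 0 := by
    apply LinearMap.ext
    intro v
    simp only [Module.End.mul_apply, LinearMap.sub_apply, Module.End.one_apply, map_sub, hAAv,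
      LinearMap.zero_apply]
    have := o9_siegfour_add_self (F := F) (v - A v)
    rw [← this]
    abel
  have hB : polar Q w ((A - 1 : Module.End F V) w) ≠ 0 :=
    polar_ne_zero_of_plane hfin Q hQ (A - 1) hNN w hw
  have hB' : polar Q w (A w) ≠ 0 := by
    intro h0
    apply hB
    rw [LinearMap.sub_apply, Module.End.one_apply, polar_sub_right, h0, polar_self, zero_sub,
      two_smul, ← two_mul, h2F, zero_mul, neg_zero]
  set g := siegel Q w A with hg
  have hA2' : A ^ 2 = 1 := by rw [pow_two]; exact hAA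
  have hA3 : A ^ 3 = A := by rw [pow_succ, hA2', one_mul]
  have hA4 : A ^ 4 = 1 := by
    have : A ^ 4 = A ^ 2 * A ^ 2 := by rw [← pow_add]
    rw [this, hA2', one_mul]
  have hg4 : g ^ 4 = 1 := by
    rw [hg, siegel_pow Q w A hA, hA4]
    have : ∑ i ∈ Finset.range 4, (A ^ i) w = 0 := by
      simp only [Finset.sum_range_succ, Finset.sum_range_zero, zero_add, pow_zero, pow_one,
        Module.End.one_apply, hA2', hA3]
      have h1 := o9_siegfour_add_self (F := F) (w + A w)
      rw [← h1]
      abel
    rw [this]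
    exact (siegel_one Q).1
  refine ⟨hg4, ?_⟩
  have e3 : (3 : ℕ) = 2 ^ 2 - 1 := by norm_num
  rw [e3, ← geom_sum_char_two g 2]
  intro h0
  have h1 := LinearMap.congr_fun h0 ((0, 1), 0)
  have e : (2 : ℕ) ^ 2 = 4 := by norm_num
  rw [e, LinearMap.sum_apply] at h1
  simp only [Finset.sum_range_succ, Finset.sum_range_zero, zero_add, hg,
    siegel_pow Q w A hA, o9_siegfour_apply, pow_zero, pow_one, Module.End.one_apply, hA2',
    LinearMap.zero_apply] at h1
  have h3 := congrArg (fun v : (F × F) × V => v.1.1) h1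
  simp only [Prod.fst_add, Prod.fst_zero, map_zero, zero_add] at h3
  apply hB'
  have h4 : Q (w + A w) = Q w + Q (A w) + polar Q w (A w) := by
    unfold polar
    ring
  have h5 : w + A w + w = A w := by
    have := o9_siegfour_add_self (F := F) w
    calc w + A w + w = A w + (w + w) := by abel
      _ = A w := by rw [this, add_zero]
  rw [h5, h4, hA] at h3
  have h6 : Q w + Q w = 0 := by rw [← two_mul, h2F, zero_mul]
  calc polar Q w (A w) = (Q w + Q w) + (Q w + Q w) + polar Q w (A w) := by
        rw [h6]; ring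
    _ = Q w + (Q w + Q w + polar Q w (A w)) + Q w := by ring
    _ = 0 := h3

end Cfsg.Agent.Helper5.O9
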