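import Mathlib
import Cfsg.Agent.Lib.Helper5.O8Defs
import Cfsg.Agent.Lib.Helper5.O9Defs
import Cfsg.Agent.Lib.O8.O8HYPQ

/-!
# S3590 piece O9-SIEGREFL: the Siegel-type map of a reflection is a product of three reflections
-/

set_option autoImplicit false

namespace Cfsg.Agent.Helper5.O9

open Polynomial Module QuadraticMap
open Cfsg.Agent.Helper13 Cfsg.Agent.Helper13.OrthSS Cfsg.Agent.Helper5.O8

universe u

theorem o9_siegrefl_polar_hyp {F : Type u} [Field F] (u v : F × F) :
    polar (hypQ F) u v = u.1 * v.2 + v.1 * u.2 := by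
  rw [polar, hypQ_apply, hypQ_apply, hypQ_apply]
  simp only [Prod.fst_add, Prod.snd_add]
  ring

theorem o9_siegrefl_polar {F : Type u} [Field F] {W : Type u} [AddCommGroup W] [Module F W]
    (Q : QuadraticForm F W) (x y x' y' : F) (z z' : W) :
    polar (QuadraticMap.prod (hypQ F) Q) ((x, y), z) ((x', y'), z') =
      x * y' + x' * y + polar Q z z' := by
  rw [polar_prod', o9_siegrefl_polar_hyp]

theorem o9_siegrefl_Q {F : Type u} [Field F] {W : Type u} [AddCommGroup W] [Module F W]
    (Q : QuadraticForm F W) (x y : F) (z : W) :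
    (QuadraticMap.prod (hypQ F) Q) ((x, y), z) = x * y + Q z := by
  rw [QuadraticMap.prod_apply, hypQ_apply]

/-- a reflection in a vector of the second summand -/
theorem o9_siegrefl_snd {F : Type u} [Field F] {W : Type u} [AddCommGroup W] [Module F W]
    (Q : QuadraticForm F W) (c : W) (x y : F) (z : W) :
    refl (QuadraticMap.prod (hypQ F) Q) ((0, 0), c) ((x, y), z) = ((x, y), refl Q c z) := by
  rw [refl_apply, refl_apply, o9_siegrefl_polar, o9_siegrefl_Q]
  refine Prod.ext (Prod.ext ?_ ?_) ?_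
  · simp
  · simp
  · simp

-- PIECE O9-SIEGREFL
theorem siegel_eq_refl {F : Type u} [Field F] [CharP F 2] {W : Type u} [AddCommGroup W]
    [Module F W] (Q : QuadraticForm F W) (w c : W) (hw : Q w ≠ 0) (hc : Q c ≠ 0) :
    siegel Q w (refl Q c) =
      refl (QuadraticMap.prod (hypQ F) Q) ((Q w, 0), w) *
        refl (QuadraticMap.prod (hypQ F) Q) ((0, 0), w) *
        refl (QuadraticMap.prod (hypQ F) Q) ((0, 0), c) := by
  have h2F : (2 : F) = 0 := by
    have := CharP.cast_eq_zero F 2
    exact_mod_cast this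
  apply LinearMap.ext
  rintro ⟨⟨x, y⟩, z⟩
  rw [Module.End.mul_apply, Module.End.mul_apply, o9_siegrefl_snd, o9_siegrefl_snd, siegel_apply]
  set z' := refl Q c z with hz'
  rw [refl_apply (QuadraticMap.prod (hypQ F) Q), o9_siegrefl_polar, o9_siegrefl_Q]
  -- `refl Q w (refl Q w z') = z'`
  have hrr : refl Q w (refl Q w z') = z' := by
    have := LinearMap.congr_fun (refl_mul_self Q w) z'
    simpa using this
  have hpol : polar Q (refl Q w z') w = polar Q z' w := by
    rw [refl_apply, polar_add_left, polar_smul_left, polar_self, smul_eq_mul, two_smul,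
      ← two_mul, h2F, zero_mul, mul_zero, add_zero]
  rw [hpol]
  have hc1 : (Q w * 0 + Q w)⁻¹ * (x * 0 + Q w * y + polar Q z' w) =
      y + (Q w)⁻¹ * polar Q z' w := by
    field_simp
    ring
  rw [hc1]
  refine Prod.ext (Prod.ext ?_ ?_) ?_
  · simp only [Prod.smul_mk, Prod.mk_add_mk, smul_eq_mul]
    field_simp
    ring
  · simp only [Prod.smul_mk, Prod.mk_add_mk, smul_eq_mul, mul_zero, add_zero]
  · simp only [Prod.smul_mk, Prod.mk_add_mk]
    rw [add_smul, ← add_assoc]
    have h3 : refl Q w z' + y • w + ((Q w)⁻¹ * polar Q z' w) • w =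
        (refl Q w z' + ((Q w)⁻¹ * polar Q z' w) • w) + y • w := by abel
    rw [h3]
    congr 1
    have h4 : refl Q w (refl Q w z') = refl Q w z' + ((Q w)⁻¹ * polar Q (refl Q w z') w) • w :=
      refl_apply Q w _
    rw [hpol, hrr] at h4
    exact h4

end Cfsg.Agent.Helper5.O9
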