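import Mathlib
import Cfsg.Agent.Lib.Helper5.O8Defs
import Cfsg.Agent.Lib.Helper5.O9Defs
import Cfsg.Agent.Lib.O8.O8HYPQ
import Cfsg.Agent.Lib.O8.O8SIEGISO
import Cfsg.Agent.Lib.O8.O8GEOM2
import Cfsg.Agent.Lib.O8.O8UNI2M
import Cfsg.Agent.Lib.O8.O8PROD
import Cfsg.Agent.Lib.O9.O9SIEGFOUR
import Cfsg.Agent.Lib.O9.O9SIEGREFL
import Cfsg.Agent.Lib.O9.O9SUMPROD
import Cfsg.Agent.Lib.O9.O9REFLISO
import Cfsg.Agent.Lib.Helper13.OrthType4
import Cfsg.Agent.Lib.Helper13.SympReal

/-!
# S3590 piece O9-U62: the unipotent part of dimension 6 with a Jordan block of size 4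
-/

set_option autoImplicit false

namespace Cfsg.Agent.Helper5.O9

open Polynomial Module QuadraticMap
open Cfsg.Agent.Helper13 Cfsg.Agent.Helper13.OrthSS Cfsg.Agent.Helper5.O8

universe u

/-- in a plane which is not hyperbolic every nonzero vector is nonsingular -/
theorem o9_u62_aniso {F : Type u} [Field F] {V : Type u} [AddCommGroup V] [Module F V]
    (Q : QuadraticForm F V) (hfin : finrank F V = 2) (hnh : ¬ IsHyp Q) (v : V) (hv : v ≠ 0) :
    Q v ≠ 0 := by
  intro h0
  apply hnh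
  refine ⟨Submodule.span F {v}, ?_, ?_⟩
  · intro x hx
    obtain ⟨c, rfl⟩ := Submodule.mem_span_singleton.1 hx
    rw [QuadraticMap.map_smul, h0, smul_zero]
  · rw [hfin, finrank_span_singleton hv]

/-- a nondegenerate plane contains `c ≠ 0` and `w` with `B(w, c) ≠ 0` -/
theorem o9_u62_pair {F : Type u} [Field F] {V : Type u} [AddCommGroup V] [Module F V]
    [FiniteDimensional F V] (Q : QuadraticForm F V) (hfin : finrank F V = 2)
    (hQ : (polarBilin Q).Nondegenerate) : ∃ c w : V, c ≠ 0 ∧ polar Q w c ≠ 0 := by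
  have hnt : Nontrivial V := by
    apply Module.nontrivial_of_finrank_pos (R := F)
    rw [hfin]; norm_num
  obtain ⟨c, hc⟩ := exists_ne (0 : V)
  by_contra hcon
  push Not at hcon
  apply hc
  apply hQ.1
  intro w
  have := hcon c w hc
  rw [polarBilin_apply_apply, polar_comm]
  exact this

/-- the general construction -/
theorem o9_u62_main {F : Type u} [Field F] [Fintype F] [CharP F 2] {W P : Type u}
    [AddCommGroup W] [Module F W] [FiniteDimensional F W] [AddCommGroup P] [Module F P]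
    [FiniteDimensional F P] (QW : QuadraticForm F W) (QP : QuadraticForm F P)
    (hW : finrank F W = 2) (hP : finrank F P = 2) (ndW : (polarBilin QW).Nondegenerate)
    (ndP : (polarBilin QP).Nondegenerate) (hWh : ¬ IsHyp QW) (e : P) (he : QP e ≠ 0)
    (t : Prop) (ht : ¬ IsHyp QP ↔ t) : QLN F 6 (2 ^ 2) t True := by
  obtain ⟨hH1, hH2, hH3⟩ := hypQ_facts F
  obtain ⟨c, w, hc0, hwc⟩ := o9_u62_pair QW hW ndW
  have hQc : QW c ≠ 0 := o9_u62_aniso QW hW hWh c hc0
  have hw0 : w ≠ 0 := by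
    rintro rfl
    apply hwc
    simp
  have hQw : QW w ≠ 0 := o9_u62_aniso QW hW hWh w hw0
  set A := refl QW c with hA
  have hAiso : ∀ v, QW (A v) = QW v := refl_isometry QW c hQc
  have hAA : A * A = 1 := refl_mul_self QW c
  have hAw : (A - 1) w ≠ 0 := by
    rw [LinearMap.sub_apply, Module.End.one_apply, hA, refl_apply, add_sub_cancel_left]
    exact smul_ne_zero (mul_ne_zero (inv_ne_zero hQc) hwc) hc0
  obtain ⟨hg4, hg3⟩ := siegel_four hW QW ndW A hAiso hAA w hAw
  set g := siegel QW w A with hg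
  set Q1 := QuadraticMap.prod (hypQ F) QW with hQ1
  have hgiso : ∀ v, Q1 (g v) = Q1 v := siegel_isometry QW w A hAiso
  have hgrefl : IsReflProd Q1 g 3 := by
    refine ⟨[((QW w, 0), w), ((0, 0), w), ((0, 0), c)], rfl, ?_, ?_⟩
    · intro a ha
      simp only [List.mem_cons, List.not_mem_nil, or_false] at ha
      rcases ha with rfl | rfl | rfl
      · rw [hQ1, o9_siegrefl_Q]; simpa using hQw
      · rw [hQ1, o9_siegrefl_Q]; simpa using hQw
      · rw [hQ1, o9_siegrefl_Q]; simpa using hQc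
    · rw [hg, hA, siegel_eq_refl QW w c hQw hQc, hQ1]
      simp [mul_assoc]
  have hrefl : IsReflProd QP (refl QP e) 1 := by
    refine ⟨[e], rfl, ?_, ?_⟩
    · intro a ha
      simp only [List.mem_cons, List.not_mem_nil, or_false] at ha
      rw [ha]; exact he
    · simp
  have hnd1 : (polarBilin Q1).Nondegenerate := nondeg_prod _ _ hH1 ndW
  have hfin1 : finrank F ((F × F) × W) = 4 := by rw [Module.finrank_prod, hH3, hW]
  have hhyp1 : ¬ IsHyp Q1 := by
    rw [hQ1, isHyp_prod_iff (hypQ F) QW hH1 ndW (by rw [hH3]; exact even_two)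
      (by rw [hW]; exact even_two)]
    intro h
    exact hWh (h.1 hH2)
  have hr4 : (refl QP e) ^ 4 = 1 := by
    have : (refl QP e) ^ 4 = (refl QP e) ^ 2 * (refl QP e) ^ 2 := by
      rw [← pow_add]
    rw [this, pow_two, refl_mul_self, one_mul]
  have hg2 : g ^ 2 ≠ 1 := by
    intro h
    apply hg3
    have h2 : (g - 1) ^ 2 = 0 := by
      have e2 : (2 : ℕ) = 2 ^ 1 := by norm_num
      have := geom_sum_char_two g 1
      have h3 : (g - 1) * (g - 1) = g * g - g - g + 1 := by
        rw [mul_sub, sub_mul, sub_mul, one_mul, mul_one, one_mul]; abel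
      rw [pow_two, h3, ← pow_two, h]
      have h4 : (g + g : Module.End F ((F × F) × W)) = 0 := by
        rw [← two_smul F g, CharTwo.two_eq_zero, zero_smul]
      have h5 : (1 + 1 : Module.End F ((F × F) × W)) = 0 := by
        rw [← two_smul F (1 : Module.End F ((F × F) × W)), CharTwo.two_eq_zero, zero_smul]
      calc (1 : Module.End F ((F × F) × W)) - g - g + 1 = (1 + 1) - (g + g) := by abel
        _ = 0 := by rw [h4, h5, sub_zero]
    rw [pow_succ, h2, zero_mul]
  refine ⟨((F × F) × W) × P, inferInstance, inferInstance, inferInstance, g.prodMap (refl QP e),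
    QuadraticMap.prod Q1 QP, ?_, by norm_num, nondeg_prod _ _ hnd1 ndP, ?_, ?_, ⟨3, rfl⟩, ?_, ?_, ?_⟩
  · -- order
    have : Fact (Nat.Prime 2) := ⟨Nat.prime_two⟩
    have := orderOf_eq_prime_pow (x := g.prodMap (refl QP e)) (p := 2) (n := 1) ?_ ?_
    · simpa using this
    · rw [Cfsg.Agent.Helper13.SympSS.prodMap_pow, o8_prod_prodMap_eq_one]
      intro h
      exact hg2 (by simpa using h.1)
    · rw [Cfsg.Agent.Helper13.SympSS.prodMap_pow, o8_prod_prodMap_eq_one]
      exact ⟨by simpa using hg4, by simpa using hr4⟩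
  · rintro ⟨x, y⟩
    show Q1 (g x) + QP (refl QP e y) = Q1 x + QP y
    rw [hgiso, refl_isometry QP e he]
  · rw [Module.finrank_prod, hfin1, hP]
  · rw [isHyp_prod_iff Q1 QP hnd1 ndP (by rw [hfin1]; exact ⟨2, rfl⟩) (by rw [hP]; exact even_two),
      ← ht]
    constructor
    · intro h h'
      exact hhyp1 (h.2 h')
    · intro h
      exact ⟨fun h' => absurd h' hhyp1, fun h' => absurd h' h⟩
  · exact ⟨3 + 1, ⟨2, rfl⟩, isReflProd_prodMap Q1 QP hgrefl hrefl⟩
  · intro _
    obtain ⟨v0, hv0⟩ : ∃ v0, ((g - 1) ^ 3 : Module.End F ((F × F) × W)) v0 ≠ 0 := by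
      by_contra hcon
      push Not at hcon
      exact hg3 (LinearMap.ext hcon)
    refine ⟨(v0, 0), ?_⟩
    rw [geom_sum_char_two (g.prodMap (refl QP e)) 2]
    have h1 : (g.prodMap (refl QP e) - 1) = (g - 1).prodMap (refl QP e - 1) := by
      apply LinearMap.ext
      rintro ⟨x, y⟩
      rfl
    rw [h1, Cfsg.Agent.Helper13.SympSS.prodMap_pow]
    intro h
    apply hv0
    have := congrArg Prod.fst h
    simpa using this

-- PIECE O9-U62
theorem qln_six_two {F : Type u} [Field F] [Fintype F] [CharP F 2] :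
    QLN F 6 (2 ^ 2) True True ∧ QLN F 6 (2 ^ 2) False True := by
  obtain ⟨W, i1, i2, i3, AW, QW, -, -, ndW, -, hW, -, htW⟩ := quni_two_minus (F := F)
  have hWh : ¬ IsHyp QW := fun h => htW.1 h
  obtain ⟨hH1, hH2, hH3⟩ := hypQ_facts F
  constructor
  · obtain ⟨e, -, he0, -⟩ := o9_u62_pair QW hW ndW
    exact o9_u62_main QW QW hW hW ndW ndW hWh e (o9_u62_aniso QW hW hWh e he0) True
      (iff_true_intro hWh)
  · refine o9_u62_main QW (hypQ F) hW hH3 ndW hH1 hWh (1, 1) ?_ False ?_
    · rw [hypQ_apply]; simp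
    · exact iff_false_intro (not_not_intro hH2)

end Cfsg.Agent.Helper5.O9
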