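import Mathlib
import Cfsg.Prelude.Def_Classical
import Cfsg.Agent.Lib.Helper5.O8Defs
import Cfsg.Agent.Lib.Helper5.O9Defs
import Cfsg.Agent.Lib.Helper5.O8Main

/-!
# S3590 piece O9-UPPER: the domination argument of S3589 for an endomorphism of an 8-dimensional
space with star-closed characteristic polynomial, keeping track of the multiplicity of `X - 1`
-/

set_option autoImplicit false

namespace Cfsg.Agent.Helper5.O9

open Polynomial Module QuadraticMap
open Cfsg.Agent.Helper13 Cfsg.Agent.Helper13.OrthSS Cfsg.Agent.Helper13.Dual Cfsg.Agent.Helper10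
open Cfsg.Agent.Helper5.O8

universe u

theorem o9_upper_pow_eq_one {F : Type u} [Field F] {V : Type u} [AddCommGroup V]
    [Module F V] [FiniteDimensional F V] (g : Module.End F V) (T : ℕ)
    (key : g.charpoly ∣ X ^ T - 1) : g ^ T = 1 := by
  have h3 := Polynomial.aeval_eq_zero_of_dvd_aeval_eq_zero key (LinearMap.aeval_self_charpoly g)
  rw [map_sub, map_pow, aeval_X, map_one, sub_eq_zero] at h3
  exact h3

-- PIECE O9-UPPER
theorem upper_end {F : Type u} [Field F] [Fintype F] [CharP F 2] {V : Type u} [AddCommGroup V]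
    [Module F V] [FiniteDimensional F V] (hd : finrank F V = 8) (g : Module.End F V)
    (h0 : g.charpoly.coeff 0 ≠ 0) (hstar : EO.star g.charpoly = g.charpoly) :
    ∃ p ∈ Llist (Fintype.card F), g ^ (p.1 * 2 ^ p.2) = 1 ∧
      g.charpoly.rootMultiplicity 1 ≤ 2 ^ p.2 := by
  obtain ⟨hq, -⟩ := card_facts F
  have hmon : g.charpoly.Monic := LinearMap.charpoly_monic g
  have hdeg : g.charpoly.natDegree = 8 := by rw [LinearMap.charpoly_natDegree, hd]
  obtain ⟨u, χ', hχ, hmon', h0', hstar', h1'⟩ := upeel _ hmon h0 hstar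
  obtain ⟨k, N, M, hk, hR, hdvd⟩ := reach_of_poly _ χ' rfl hmon' h0' hstar' h1'
  have hX1mon : (X - 1 : F[X]).Monic := by
    have := monic_X_sub_C (1 : F)
    rwa [C_1] at this
  have hX1deg : (X - 1 : F[X]).natDegree = 1 := by
    have := natDegree_X_sub_C (1 : F)
    rwa [C_1] at this
  have hdeg8 : 8 = u + 2 * k := by
    rw [← hdeg, hχ, (hX1mon.pow u).natDegree_mul hmon', hX1mon.natDegree_pow, hX1deg, hk]
    ring
  have hk4 : k ≤ 4 := by omega
  obtain ⟨p, hp, hNp, hMp⟩ := dom_of_reach _ hq hR hk4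
  obtain ⟨p', hp', hpp', hmax⟩ := dom_final _ hq k hk4 p hp
  have hu : u = 8 - 2 * k := by omega
  have hMle : M ≤ 2 ^ p'.2 := le_trans hMp (le_trans (le_max_left _ _) hmax)
  have hule : u ≤ 2 ^ p'.2 := by
    rw [hu]
    exact le_trans (le_max_right _ _) hmax
  have hpow : ((X : F[X]) ^ p'.1 - 1) ^ (2 ^ p'.2) = X ^ (p'.1 * 2 ^ p'.2) - 1 := by
    rw [sub_pow_char_pow, one_pow, ← pow_mul]
  have hirrX : Irreducible (X - 1 : F[X]) := by
    have := irreducible_X_sub_C (1 : F)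
    rwa [C_1] at this
  have hcop : IsCoprime ((X - 1 : F[X]) ^ u) χ' := by
    apply IsCoprime.pow_left
    rw [hirrX.coprime_iff_not_dvd]
    intro hd'
    apply h1'
    have : (X - C (1 : F)) ∣ χ' := by rwa [C_1]
    exact dvd_iff_isRoot.mp this
  have key : g.charpoly ∣ X ^ (p'.1 * 2 ^ p'.2) - 1 := by
    rw [hχ, ← hpow]
    apply IsCoprime.mul_dvd hcop
    · have h1 : (X - 1 : F[X]) ∣ X ^ p'.1 - 1 := by
        have := sub_dvd_pow_sub_pow (X : F[X]) 1 p'.1
        rwa [one_pow] at this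
      exact dvd_trans (pow_dvd_pow_of_dvd h1 u) (pow_dvd_pow _ hule)
    · have h2 : (X ^ N - 1 : F[X]) ∣ X ^ p'.1 - 1 :=
        EO.X_pow_sub_one_dvd N p'.1 (dvd_trans hNp hpp')
      exact dvd_trans hdvd (dvd_trans (pow_dvd_pow_of_dvd h2 M) (pow_dvd_pow _ hMle))
  refine ⟨p', hp', o9_upper_pow_eq_one g _ key, ?_⟩
  -- the multiplicity of `X - 1` is `u`
  have hχ'0 : χ' ≠ 0 := hmon'.ne_zero
  have hne : ((X - 1 : F[X]) ^ u * χ') ≠ 0 := mul_ne_zero (pow_ne_zero _ hX1mon.ne_zero) hχ'0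
  have hmult : g.charpoly.rootMultiplicity 1 = u := by
    rw [hχ, rootMultiplicity_mul hne]
    have e1 : rootMultiplicity (1 : F) ((X - 1 : F[X]) ^ u) = u := by
      have := rootMultiplicity_X_sub_C_pow (1 : F) u
      rwa [C_1] at this
    have e2 : rootMultiplicity (1 : F) χ' = 0 := rootMultiplicity_eq_zero h1'
    rw [e1, e2, add_zero]
  rw [hmult]
  exact hule

end Cfsg.Agent.Helper5.O9
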