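import Mathlib
import Cfsg.Prelude.Def_Classical
import Cfsg.Agent.Lib.Helper5.O8Defs
import Cfsg.Agent.Lib.Helper5.O9Defs
import Cfsg.Agent.Lib.Helper5.O8Main
import Cfsg.Agent.Lib.Helper2.AffExt
import Cfsg.Agent.Lib.Helper17.SpectrumIterate

/-!
# O9-QLNPROD2 (helper28): orthogonal sum of a `QLN` space of odd order and one of 2-power order
with nonzero norm map.  Self-contained (own copy of the product-of-reflections lemma).
-/

set_option autoImplicit false

namespace Cfsg.Agent.Helper5.O9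

open Polynomial Module QuadraticMap
open Cfsg.Agent.Helper13 Cfsg.Agent.Helper13.OrthSS Cfsg.Agent.Helper13.Dual Cfsg.Agent.Helper10
open Cfsg.Agent.Helper5.O8 Cfsg.Agent.Helper2

universe u

section sumprod
variable {F : Type u} [Field F] {V W : Type u} [AddCommGroup V] [Module F V] [AddCommGroup W]
  [Module F W]

/-- the reflection in `(a, 0)` -/
theorem o9_qlnprod2_refl_inl (Q : QuadraticForm F V) (Q' : QuadraticForm F W) (a : V) :
    refl (QuadraticMap.prod Q Q') (a, 0) = (refl Q a).prodMap 1 := by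
  apply LinearMap.ext
  rintro ⟨x, y⟩
  rw [refl_apply, LinearMap.prodMap_apply, refl_apply]
  have h1 : QuadraticMap.prod Q Q' (a, 0) = Q a := by
    rw [QuadraticMap.prod_apply, map_zero, add_zero]
  have h2 : polar (QuadraticMap.prod Q Q') (x, y) (a, 0) = polar Q x a := by
    rw [QuadraticMap.polar_prod]
    simp
  rw [h1, h2]
  ext <;> simp

/-- the reflection in `(0, b)` -/
theorem o9_qlnprod2_refl_inr (Q : QuadraticForm F V) (Q' : QuadraticForm F W) (b : W) :
    refl (QuadraticMap.prod Q Q') (0, b) = (1 : Module.End F V).prodMap (refl Q' b) := by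
  apply LinearMap.ext
  rintro ⟨x, y⟩
  rw [refl_apply, LinearMap.prodMap_apply, refl_apply]
  have h1 : QuadraticMap.prod Q Q' (0, b) = Q' b := by
    rw [QuadraticMap.prod_apply, map_zero, zero_add]
  have h2 : polar (QuadraticMap.prod Q Q') (x, y) (0, b) = polar Q' y b := by
    rw [QuadraticMap.polar_prod]
    simp
  rw [h1, h2]
  ext <;> simp

theorem o9_qlnprod2_prodMap_mul (f g : Module.End F V) (f' g' : Module.End F W) :
    (f * g).prodMap (f' * g') = f.prodMap f' * g.prodMap g' := by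
  apply LinearMap.ext
  rintro ⟨x, y⟩
  rfl

theorem o9_qlnprod2_prodMap_one :
    (1 : Module.End F V).prodMap (1 : Module.End F W) = 1 := by
  apply LinearMap.ext
  rintro ⟨x, y⟩
  rfl

theorem o9_qlnprod2_left (Q : QuadraticForm F V) (Q' : QuadraticForm F W) (l : List V) :
    ((l.map (refl Q)).prod).prodMap (1 : Module.End F W) =
      ((l.map (fun a => ((a, 0) : V × W))).map (refl (QuadraticMap.prod Q Q'))).prod := by
  induction l with
  | nil => simpa using o9_qlnprod2_prodMap_one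
  | cons a l ih =>
    rw [List.map_cons, List.prod_cons, List.map_cons, List.map_cons, List.prod_cons, ← ih,
      o9_qlnprod2_refl_inl, ← o9_qlnprod2_prodMap_mul, one_mul]

theorem o9_qlnprod2_right (Q : QuadraticForm F V) (Q' : QuadraticForm F W) (l : List W) :
    (1 : Module.End F V).prodMap ((l.map (refl Q')).prod) =
      ((l.map (fun b => ((0, b) : V × W))).map (refl (QuadraticMap.prod Q Q'))).prod := by
  induction l with
  | nil => simpa using o9_qlnprod2_prodMap_one
  | cons a l ih =>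
    rw [List.map_cons, List.prod_cons, List.map_cons, List.map_cons, List.prod_cons, ← ih,
      o9_qlnprod2_refl_inr, ← o9_qlnprod2_prodMap_mul, one_mul]

/-- own copy of the product-of-reflections lemma for orthogonal sums -/
theorem o9_qlnprod2_sumprod (Q : QuadraticForm F V) (Q' : QuadraticForm F W)
    {x : Module.End F V} {y : Module.End F W} {k m : ℕ} (hx : IsReflProd Q x k)
    (hy : IsReflProd Q' y m) : IsReflProd (QuadraticMap.prod Q Q') (x.prodMap y) (k + m) := by
  obtain ⟨l, hl, hlQ, rfl⟩ := hx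
  obtain ⟨l', hl', hlQ', rfl⟩ := hy
  have e : ((l.map (refl Q)).prod).prodMap ((l'.map (refl Q')).prod) =
      ((l.map (refl Q)).prod).prodMap (1 : Module.End F W) *
        (1 : Module.End F V).prodMap ((l'.map (refl Q')).prod) := by
    rw [← o9_qlnprod2_prodMap_mul, mul_one, one_mul]
  rw [e]
  apply isReflProd_mul
  · refine ⟨l.map (fun a => ((a, 0) : V × W)), by rw [List.length_map, hl], ?_,
      o9_qlnprod2_left Q Q' l⟩
    intro p hp
    obtain ⟨a, ha, rfl⟩ := List.mem_map.1 hp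
    rw [QuadraticMap.prod_apply, map_zero, add_zero]
    exact hlQ a ha
  · refine ⟨l'.map (fun b => ((0, b) : V × W)), by rw [List.length_map, hl'], ?_,
      o9_qlnprod2_right Q Q' l'⟩
    intro p hp
    obtain ⟨b, hb, rfl⟩ := List.mem_map.1 hp
    rw [QuadraticMap.prod_apply, map_zero, zero_add]
    exact hlQ' b hb

end sumprod

/-- the geometric sum over `k * m` terms of an element with `B ^ m = 1` -/
theorem o9_qlnprod2_geom {R : Type*} [Ring R] (B : R) (m : ℕ) (hB : B ^ m = 1) (k : ℕ) :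
    ∑ i ∈ Finset.range (k * m), B ^ i = k • ∑ i ∈ Finset.range m, B ^ i := by
  induction k with
  | zero => simp
  | succ k ih =>
    rw [Nat.succ_mul, Finset.sum_range_add, ih, succ_nsmul]
    congr 1
    apply Finset.sum_congr rfl
    intro j _
    rw [pow_add, mul_comm k m, pow_mul, hB, one_pow, one_mul]

theorem o9_qlnprod2_prodMap_eq_one {F : Type*} [Field F] {V W : Type*} [AddCommGroup V]
    [Module F V] [AddCommGroup W] [Module F W] (f : Module.End F V) (g : Module.End F W) :
    f.prodMap g = 1 ↔ f = 1 ∧ g = 1 := by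
  constructor
  · intro h
    constructor
    · apply LinearMap.ext
      intro x
      have := congrArg (fun φ : Module.End F (V × W) => (φ (x, 0)).1) h
      simpa using this
    · apply LinearMap.ext
      intro y
      have := congrArg (fun φ : Module.End F (V × W) => (φ (0, y)).2) h
      simpa using this
  · rintro ⟨rfl, rfl⟩
    apply LinearMap.ext
    rintro ⟨x, y⟩
    rfl

-- PIECE O9-QLNPROD2
theorem qln_prod_dbl {F : Type u} [Field F] [Fintype F] [CharP F 2] {d₁ d₂ n₁ s : ℕ}
    {t₁ t₂ : Prop} (h₁ : QLN F d₁ n₁ t₁ False) (hodd : Odd n₁) (h₂ : QLN F d₂ (2 ^ s) t₂ True) :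
    QLN F (d₁ + d₂) (n₁ * 2 ^ s) (t₁ ↔ t₂) True := by
  obtain ⟨V, _, _, _, A, Q, hAo, hn, hQ, hAQ, hd, hev, ht, ⟨k, hk, hAL⟩, -⟩ := h₁
  obtain ⟨W, _, _, _, A', Q', hAo', hn', hQ', hAQ', hd', hev', ht', ⟨k', hk', hAL'⟩, hdbl⟩ := h₂
  have h2 : (2 : F) = 0 := by
    have := CharP.cast_eq_zero F 2
    exact_mod_cast this
  have hcop : Nat.Coprime n₁ (2 ^ s) := (Nat.Coprime.pow_right s hodd.coprime_two_right)
  have hord : orderOf (A.prodMap A') = n₁ * 2 ^ s := by
    have key : ∀ j : ℕ, (A.prodMap A') ^ j = 1 ↔ n₁ ∣ j ∧ 2 ^ s ∣ j := by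
      intro j
      rw [Cfsg.Agent.Helper13.SympSS.prodMap_pow, o9_qlnprod2_prodMap_eq_one, ← hAo, ← hAo',
        orderOf_dvd_iff_pow_eq_one, orderOf_dvd_iff_pow_eq_one]
    apply Nat.dvd_antisymm
    · apply orderOf_dvd_of_pow_eq_one
      rw [key]
      exact ⟨Dvd.intro _ rfl, Dvd.intro_left _ rfl⟩
    · have := (key _).1 (pow_orderOf_eq_one (A.prodMap A'))
      exact hcop.mul_dvd_of_dvd_of_dvd this.1 this.2
  refine ⟨V × W, inferInstance, inferInstance, inferInstance, A.prodMap A',
    QuadraticMap.prod Q Q', hord, Nat.mul_pos hn hn', nondeg_prod Q Q' hQ hQ', ?_, ?_,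
    hev.add hev', ?_, ⟨k + k', hk.add hk', o9_qlnprod2_sumprod Q Q' hAL hAL'⟩, ?_⟩
  · rintro ⟨x, y⟩
    show QuadraticMap.prod Q Q' (A x, A' y) = QuadraticMap.prod Q Q' (x, y)
    rw [QuadraticMap.prod_apply, QuadraticMap.prod_apply, hAQ, hAQ']
  · rw [Module.finrank_prod, hd, hd']
  · rw [isHyp_prod_iff Q Q' hQ hQ' (hd ▸ hev) (hd' ▸ hev'), ht, ht']
  · intro _
    obtain ⟨v, hv⟩ := hdbl trivial
    refine ⟨(0, v), ?_⟩
    intro h0
    apply hv
    have hA'pow : A' ^ (2 ^ s) = 1 := by rw [← hAo']; exact pow_orderOf_eq_one A'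
    have e1 : ∑ i ∈ Finset.range (n₁ * 2 ^ s), A' ^ i = ∑ i ∈ Finset.range (2 ^ s), A' ^ i := by
      rw [o9_qlnprod2_geom A' (2 ^ s) hA'pow n₁, ← Nat.cast_smul_eq_nsmul F,
        natCast_eq_one_of_odd_of_two_eq_zero hodd h2, one_smul]
    have e2 : ((∑ i ∈ Finset.range (n₁ * 2 ^ s), (A.prodMap A') ^ i) ((0, v) : V × W)).2 =
        (∑ i ∈ Finset.range (n₁ * 2 ^ s), A' ^ i) v := by
      rw [LinearMap.sum_apply, LinearMap.sum_apply, Prod.snd_sum]
      apply Finset.sum_congr rfl
      intro i _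
      rw [Cfsg.Agent.Helper13.SympSS.prodMap_pow]
      rfl
    rw [← e1, ← e2, h0]
    rfl

end Cfsg.Agent.Helper5.O9
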