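import Mathlib
import Cfsg.Prelude.Def_Classical
import Cfsg.Agent.Lib.Helper5.O8Defs
import Cfsg.Agent.Lib.Helper5.O9Defs
import Cfsg.Agent.Lib.O8.O8UNI2P
import Cfsg.Agent.Lib.O8.O8UNI2M

/-!
# S3590 piece O9-U20 (helper11): the identity on a plus/minus plane
-/

set_option autoImplicit false

namespace Cfsg.Agent.Helper5.O9

open Polynomial Module QuadraticMap
open Cfsg.Agent.Helper13 Cfsg.Agent.Helper13.OrthSS
open Cfsg.Agent.Helper5.O8

universe u

/-- the identity on any plane produced by `QUni F 2 1 t` -/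
theorem o9_u20_of_quni {F : Type u} [Field F] (t : Prop) (h : QUni F 2 1 t) :
    QLN F 2 (2 ^ 0) t True := by
  obtain ⟨V, i1, i2, i3, -, Q, -, -, nd, -, hfin, hev, ht⟩ := h
  have hpos : 0 < finrank F V := by rw [hfin]; norm_num
  obtain ⟨v, hv⟩ := Module.finrank_pos_iff_exists_ne_zero.1 hpos
  refine ⟨V, i1, i2, i3, 1, Q, ?_, by norm_num, nd, fun v => rfl, hfin, hev, ht,
    ⟨0, ⟨0, rfl⟩, isReflProd_one Q⟩, fun _ => ⟨v, ?_⟩⟩
  · rw [orderOf_one]; norm_num
  · simpa using hv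

-- PIECE O9-U20
theorem qln_two_zero {F : Type u} [Field F] [Fintype F] [CharP F 2] :
    QLN F 2 (2 ^ 0) True True ∧ QLN F 2 (2 ^ 0) False True :=
  ⟨o9_u20_of_quni True (quni_two_plus (F := F)), o9_u20_of_quni False (quni_two_minus (F := F))⟩

end Cfsg.Agent.Helper5.O9
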